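import Cfsg.Agent.KnownA.Suz.Solubilizer
import Cfsg.Agent.Suzuki.SzLie

/-!
The sizes of the solubilizers in a Suzuki group.
-/

set_option autoImplicit false

namespace Cfsg.Agent.KnownA.SzMembers

open Cfsg.Agent.Suzuki Cfsg.Agent.KnownA.SzSubgroups Cfsg.Agent.KnownA.ReeLocal
open scoped Pointwise

variable {F : Type*} [Field F] {m : ℕ} (h : Ctx F m)
include h

theorem pow_four_outside {U : Subgroup ↥(Cfsg.Sz F m)} (hU : IsCyclic ↥U)
    (hk : Nat.card ↥U ∈ ({2 ^ (2 * m + 1) - 1, 2 ^ (2 * m + 1) + 2 ^ (m + 1) + 1,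
      2 ^ (2 * m + 1) - 2 ^ (m + 1) + 1} : Set ℕ)) {g : ↥(Cfsg.Sz F m)}
    (hg : g ∈ Subgroup.normalizer (U : Set ↥(Cfsg.Sz F m))) (hgU : g ∉ U) : g ^ 4 = 1 := by
  rcases hk with e | hk'
  · have := outside h hU (e ▸ Set.mem_insert _ _) ((card_normalizer_cyc h hU).1 e) hg hgU
    have e4 : g ^ (2 * 2) = 1 := by rw [pow_mul, this, one_pow]
    exact e4
  · exact outside h hU (Set.mem_insert_of_mem _ hk') ((card_normalizer_cyc h hU).2 hk') hg hgU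

/-- odd elements normalising a cyclic member lie in it -/
theorem odd_mem {U : Subgroup ↥(Cfsg.Sz F m)} (hU : IsCyclic ↥U)
    (hk : Nat.card ↥U ∈ ({2 ^ (2 * m + 1) - 1, 2 ^ (2 * m + 1) + 2 ^ (m + 1) + 1,
      2 ^ (2 * m + 1) - 2 ^ (m + 1) + 1} : Set ℕ)) {g : ↥(Cfsg.Sz F m)}
    (hg : g ∈ Subgroup.normalizer (U : Set ↥(Cfsg.Sz F m))) (hodd : Odd (orderOf g)) : g ∈ U := by
  by_contra hgU
  refine hgU ?_
  rw [orderOf_eq_one_iff.1 (Nat.eq_one_of_dvd_coprimes ((Nat.coprime_two_right.2 hodd).pow_right 2)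
    dvd_rfl (orderOf_dvd_of_pow_eq_one (pow_four_outside h hU hk hg hgU)))]
  exact one_mem _

theorem not_mem_cyc {U : Subgroup ↥(Cfsg.Sz F m)}
    (hk : Nat.card ↥U ∈ ({2 ^ (2 * m + 1) - 1, 2 ^ (2 * m + 1) + 2 ^ (m + 1) + 1,
      2 ^ (2 * m + 1) - 2 ^ (m + 1) + 1} : Set ℕ)) {x : ↥(Cfsg.Sz F m)} (hx1 : x ≠ 1) (hx : x ^ 4 = 1) : x ∉ U :=
  fun hxU => hx1 (orderOf_eq_one_iff.1 (Nat.eq_one_of_dvd_coprimes
    ((Nat.coprime_two_right.2 (k_facts h hk).2.1).pow_right 2) (Subgroup.orderOf_dvd_natCard U hxU)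
    (orderOf_dvd_of_pow_eq_one hx)))

section TwoElement

variable {x : ↥(Cfsg.Sz F m)} (hx1 : x ≠ 1) (hx : x ^ 4 = 1) {P : Sylow 2 ↥(Cfsg.Sz F m)}
  (hxP : x ∈ (P : Subgroup ↥(Cfsg.Sz F m)))
include hx1 hx hxP

theorem inter_cyc {U : Subgroup ↥(Cfsg.Sz F m)} (hU : IsCyclic ↥U)
    (hk : Nat.card ↥U ∈ ({2 ^ (2 * m + 1) - 1, 2 ^ (2 * m + 1) + 2 ^ (m + 1) + 1,
      2 ^ (2 * m + 1) - 2 ^ (m + 1) + 1} : Set ℕ))
    (hxU : x ∈ Subgroup.normalizer (U : Set ↥(Cfsg.Sz F m))) {y : ↥(Cfsg.Sz F m)} (hy : y ∈ U)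
    (hyP : y ∈ Subgroup.normalizer ((P : Subgroup ↥(Cfsg.Sz F m)) : Set ↥(Cfsg.Sz F m))) : y = 1 := by
  by_contra hy1
  have hnot := not_mem_cyc h hk hx1 hx (U := U)
  set c := x * y * x⁻¹ * y⁻¹ with hc
  have hcU : c ∈ U := mul_mem ((Subgroup.mem_normalizer_iff.1 hxU y).1 hy) (inv_mem hy)
  have hcP : c ∈ (P : Subgroup ↥(Cfsg.Sz F m)) := by
    have := mul_mem hxP ((Subgroup.mem_normalizer_iff.1 hyP x⁻¹).1 (inv_mem hxP))
    rwa [hc, show x * y * x⁻¹ * y⁻¹ = x * (y * x⁻¹ * y⁻¹) by group]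
  have hc1 : c = 1 := by
    by_contra hne
    exact hnot ((fam_unique h (Or.inr ⟨hU, hk⟩) (Or.inl ⟨P, rfl⟩) hcU hcP hne) ▸ hxP)
  refine hnot (cent_le h (Or.inr ⟨hU, hk⟩) hy hy1 (Subgroup.mem_centralizer_singleton_iff.2 ?_))
  rw [hc, mul_inv_eq_one, mul_inv_eq_iff_eq_mul] at hc1
  exact hc1

theorem card_inter {k e : ℕ}
    (hke : k = 2 ^ (2 * m + 1) - 1 ∧ e = 2 ∨
      k ∈ ({2 ^ (2 * m + 1) + 2 ^ (m + 1) + 1, 2 ^ (2 * m + 1) - 2 ^ (m + 1) + 1} : Set ℕ) ∧ e = 4)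
    {U : Subgroup ↥(Cfsg.Sz F m)} (hU : Fix k x U) :
    Nat.card {y : ↥(Subgroup.normalizer (U : Set ↥(Cfsg.Sz F m))) //
      (y : ↥(Cfsg.Sz F m)) ∉ Subgroup.normalizer ((P : Subgroup ↥(Cfsg.Sz F m)) : Set ↥(Cfsg.Sz F m))} = e * k - e := by
  classical
  have := finite_sz h
  have : Fact (Nat.Prime 2) := ⟨Nat.prime_two⟩
  obtain ⟨⟨hc, hUk⟩, hxU⟩ := hU
  have hk : Nat.card ↥U ∈ ({2 ^ (2 * m + 1) - 1, 2 ^ (2 * m + 1) + 2 ^ (m + 1) + 1,
      2 ^ (2 * m + 1) - 2 ^ (m + 1) + 1} : Set ℕ) := by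
    rw [hUk]
    rcases hke with ⟨rfl, -⟩ | ⟨hk, -⟩
    exacts [Set.mem_insert _ _, Set.mem_insert_of_mem _ hk]
  have he : Nat.card ↥(Subgroup.normalizer (U : Set ↥(Cfsg.Sz F m))) = e * k := by
    rcases hke with ⟨rfl, rfl⟩ | ⟨hk', rfl⟩
    · rw [(card_normalizer_cyc h hc).1 hUk, hUk]
    · rw [(card_normalizer_cyc h hc).2 (hUk ▸ hk'), hUk]
  have he2 : e = 2 ∨ e = 4 := by rcases hke with ⟨-, e'⟩ | ⟨-, e'⟩ <;> simp [e']
  set NP := Subgroup.normalizer ((P : Subgroup ↥(Cfsg.Sz F m)) : Set ↥(Cfsg.Sz F m)) with hNP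
  set NU := Subgroup.normalizer (U : Set ↥(Cfsg.Sz F m)) with hNU
  have hI : Nat.card ↥(NP ⊓ NU) = e := by
    refine le_antisymm ?_ ?_
    · have hinj : Nat.card (↥(NP ⊓ NU) × ↥U) ≤ Nat.card ↥NU := by
        refine Nat.card_le_card_of_injective (fun p => (⟨p.1.1 * p.2.1,
          mul_mem p.1.2.2 (Subgroup.le_normalizer p.2.2)⟩ : ↥NU)) ?_
        rintro ⟨a, u⟩ ⟨a', u'⟩ e'
        have e1 : a.1 * u.1 = a'.1 * u'.1 := congrArg Subtype.val e'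
        have e2 : a'.1⁻¹ * a.1 = u'.1 * u.1⁻¹ := by
          calc a'.1⁻¹ * a.1 = a'.1⁻¹ * (a.1 * u.1) * u.1⁻¹ := by group
            _ = _ := by rw [e1]; group
        have h1 : a'.1⁻¹ * a.1 = 1 := inter_cyc h hx1 hx hxP hc hk hxU
          (e2 ▸ mul_mem u'.2 (inv_mem u.2)) (mul_mem (inv_mem a'.2.1) a.2.1)
        have ha : a = a' := Subtype.ext (inv_mul_eq_one.1 h1).symm
        subst ha
        exact Prod.ext rfl (Subtype.ext (mul_left_cancel e1))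
      rw [Nat.card_prod, he, hUk] at hinj
      exact Nat.le_of_mul_le_mul_right hinj (by have := (k_facts h hk).1; omega)
    · obtain ⟨w, hw, hwo⟩ : ∃ w, w ∈ NP ⊓ NU ∧ orderOf w = e := by
        have hxNP : x ∈ NP := Subgroup.le_normalizer hxP
        have hxout := outside h hc hk (he.trans (by rw [hUk])) hxU (not_mem_cyc h hk hx1 hx)
        rcases he2 with rfl | rfl
        · exact ⟨x, ⟨hxNP, hxU⟩, orderOf_eq_prime hxout hx1⟩
        by_cases hx2 : x ^ 2 = 1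
        · have hxo : orderOf x = 2 := orderOf_eq_prime hx2 hx1
          have hne : Nonempty {z : ↥NU // orderOf (z : ↥(Cfsg.Sz F m)) = 4} := (Nat.card_pos_iff.1 (by
            rw [card_normalizer_two h hc hk (Or.inr rfl) (he.trans (by rw [hUk])) (Or.inr rfl)]
            have := (k_facts h hk).1
            norm_num <;> omega)).1
          obtain ⟨⟨z, hzN⟩, hz⟩ := hne
          have hz2 : orderOf (z ^ 2) = 2 := by
            rw [orderOf_pow_of_dvd (by norm_num) (by rw [hz]; norm_num), hz]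
          have hzN2 : z ^ 2 ∈ NU := pow_mem hzN 2
          obtain ⟨u0, hu0, hu01⟩ : ∃ u ∈ U, u ≠ 1 := by
            refine (Subgroup.bot_or_exists_ne_one U).resolve_left fun e' => ?_
            have := (k_facts h hk).1
            rw [e', Subgroup.card_bot] at this
            omega
          have hu : z ^ 2 * x ∈ U := by
            refine cent_le h (Or.inr ⟨hc, hk⟩) hu0 hu01 (Subgroup.mem_centralizer_singleton_iff.2 ?_)
            have e1 := inverts h hc hk hxU hxo hu0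
            have e2 := inverts h hc hk hzN2 hz2 (inv_mem hu0)
            rw [inv_inv] at e2
            calc z ^ 2 * x * u0 = z ^ 2 * (x * u0 * x⁻¹) * x := by group
              _ = z ^ 2 * u0⁻¹ * x := by rw [e1]
              _ = (z ^ 2 * u0⁻¹ * (z ^ 2)⁻¹) * (z ^ 2 * x) := by group
              _ = u0 * (z ^ 2 * x) := by rw [e2]
          set u := z ^ 2 * x with hu'
          obtain ⟨l, hl⟩ := (k_facts h hk).2.1
          set v := u ^ (l + 1) with hv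
          have hv2 : v * v = u := by
            rw [hv, ← pow_add, show l + 1 + (l + 1) = Nat.card ↥U + 1 by omega, pow_succ,
              show u ^ Nat.card ↥U = 1 from congrArg Subtype.val (pow_card_eq_one' (x := (⟨u, hu⟩ : ↥U))), one_mul]
          have hxinv : x⁻¹ = x := inv_eq_of_mul_eq_one_right ((pow_two x).symm.trans hx2)
          have hxv : x * v = v⁻¹ * x := by
            have hvU : v ∈ U := pow_mem hu (l + 1)
            rw [← inverts h hc hk hxU hxo hvU, inv_mul_cancel_right]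
          have hsq : (v⁻¹ * z * v) ^ 2 = x := by
            have e1 : (v⁻¹ * z * v) ^ 2 = v⁻¹ * z ^ 2 * v := by rw [pow_two, pow_two]; group
            have e2 : z ^ 2 = u * x := by rw [hu', mul_assoc, ← pow_two, hx2, mul_one]
            rw [e1, e2, ← hv2, show v⁻¹ * (v * v * x) * v = v * (x * v) by group, hxv, ← mul_assoc,
              mul_inv_cancel, one_mul]
          have hwN : v⁻¹ * z * v ∈ NU :=
            mul_mem (mul_mem (inv_mem (Subgroup.le_normalizer (pow_mem hu (l + 1)))) hzN)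
              (Subgroup.le_normalizer (pow_mem hu (l + 1)))
          have hwo : orderOf (v⁻¹ * z * v) = 4 := by
            rw [show v⁻¹ * z * v = MulAut.conj v⁻¹ z by simp, MulEquiv.orderOf_eq, hz]
          have hw1 : v⁻¹ * z * v ≠ 1 := fun e' => by rw [e', orderOf_one] at hwo; norm_num at hwo
          have hw4 : (v⁻¹ * z * v) ^ 4 = 1 := by have := pow_orderOf_eq_one (v⁻¹ * z * v); rwa [hwo] at this
          obtain ⟨V, ⟨hV, hwV⟩, -⟩ := partition h hw1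
          have hVP : V = (P : Subgroup ↥(Cfsg.Sz F m)) :=
            fam_unique h hV (Or.inl ⟨P, rfl⟩) (hsq ▸ pow_mem hwV 2) hxP hx1
          exact ⟨_, ⟨Subgroup.le_normalizer (hVP ▸ hwV), hwN⟩, hwo⟩
        · refine ⟨x, ⟨hxNP, hxU⟩, ?_⟩
          exact (orderOf_eq_prime_pow (p := 2) (n := 1) (by rw [pow_one]; exact hx2) hx).trans (by norm_num)
      rw [← hwo]
      exact Nat.le_of_dvd Nat.card_pos (Subgroup.orderOf_dvd_natCard _ hw)
  have h1 : Nat.card ↥NU = Nat.card {y : ↥NU // (y : ↥(Cfsg.Sz F m)) ∈ NP} +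
      Nat.card {y : ↥NU // (y : ↥(Cfsg.Sz F m)) ∉ NP} := by
    rw [← Nat.card_sum]
    exact (Nat.card_congr (Equiv.sumCompl _)).symm
  have h2 : Nat.card {y : ↥NU // (y : ↥(Cfsg.Sz F m)) ∈ NP} = e := by
    rw [← hI]
    exact Nat.card_congr ⟨fun y => ⟨y.1.1, y.2, y.1.2⟩, fun y => ⟨⟨y.1, y.2.2⟩, y.2.1⟩, fun _ => rfl, fun _ => rfl⟩
  rw [he, h2] at h1
  omega

theorem unique_outside {U V : Subgroup ↥(Cfsg.Sz F m)} (hU : IsCyclic ↥U)
    (hkU : Nat.card ↥U ∈ ({2 ^ (2 * m + 1) - 1, 2 ^ (2 * m + 1) + 2 ^ (m + 1) + 1,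
      2 ^ (2 * m + 1) - 2 ^ (m + 1) + 1} : Set ℕ))
    (hV : IsCyclic ↥V)
    (hkV : Nat.card ↥V ∈ ({2 ^ (2 * m + 1) - 1, 2 ^ (2 * m + 1) + 2 ^ (m + 1) + 1,
      2 ^ (2 * m + 1) - 2 ^ (m + 1) + 1} : Set ℕ))
    (hxU : x ∈ Subgroup.normalizer (U : Set ↥(Cfsg.Sz F m)))
    (hxV : x ∈ Subgroup.normalizer (V : Set ↥(Cfsg.Sz F m))) {y : ↥(Cfsg.Sz F m)}
    (hyU : y ∈ Subgroup.normalizer (U : Set ↥(Cfsg.Sz F m)))
    (hyV : y ∈ Subgroup.normalizer (V : Set ↥(Cfsg.Sz F m)))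
    (hyP : y ∉ Subgroup.normalizer ((P : Subgroup ↥(Cfsg.Sz F m)) : Set ↥(Cfsg.Sz F m))) : U = V := by
  have := finite_sz h
  by_contra hne
  set W := Subgroup.normalizer (U : Set ↥(Cfsg.Sz F m)) ⊓ Subgroup.normalizer (V : Set ↥(Cfsg.Sz F m)) with hW
  have hW4 : ∀ w ∈ W, w ^ 4 = 1 := by
    rintro w ⟨hwU, hwV⟩
    by_cases hwmem : w ∈ U
    · by_cases hw1 : w = 1
      · rw [hw1, one_pow]
      exfalso
      refine hne (fam_unique h (Or.inr ⟨hU, hkU⟩) (Or.inr ⟨hV, hkV⟩) hwmem ?_ hw1)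
      exact odd_mem h hV hkV hwV ((k_facts h hkU).2.1.of_dvd_nat (Subgroup.orderOf_dvd_natCard U hwmem))
    · exact pow_four_outside h hU hkU hwU hwmem
  have hWp : IsPGroup 2 ↥W := fun w => ⟨2, Subtype.ext (show w.1 ^ (2 ^ 2) = 1 from hW4 w.1 w.2)⟩
  obtain ⟨Q, hQ⟩ := hWp.exists_le_sylow
  have hQP : (Q : Subgroup ↥(Cfsg.Sz F m)) = (P : Subgroup ↥(Cfsg.Sz F m)) :=
    fam_unique h (Or.inl ⟨Q, rfl⟩) (Or.inl ⟨P, rfl⟩) (hQ ⟨hxU, hxV⟩) hxP hx1
  exact hyP (Subgroup.le_normalizer (hQP ▸ hQ ⟨hyU, hyV⟩))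

theorem card_sol_two :
    Nat.card {y // Sol x y} = (2 ^ (2 * m + 1)) ^ 2 * (2 ^ (2 * m + 1) - 1) +
      Nat.card {U // Fix (2 ^ (2 * m + 1) - 1) x U} * (2 * (2 ^ (2 * m + 1) - 1) - 2) +
      Nat.card {U // Fix (2 ^ (2 * m + 1) + 2 ^ (m + 1) + 1) x U} * (4 * (2 ^ (2 * m + 1) + 2 ^ (m + 1) + 1) - 4) +
      Nat.card {U // Fix (2 ^ (2 * m + 1) - 2 ^ (m + 1) + 1) x U} * (4 * (2 ^ (2 * m + 1) - 2 ^ (m + 1) + 1) - 4) := by
  classical
  have := finite_sz h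
  obtain ⟨-, hkm, hkp, -, -, hq1, -, -, -⟩ := orders h.one_le
  set NP := Subgroup.normalizer ((P : Subgroup ↥(Cfsg.Sz F m)) : Set ↥(Cfsg.Sz F m)) with hNP
  let ks : Fin 3 → ℕ := ![2 ^ (2 * m + 1) - 1, 2 ^ (2 * m + 1) + 2 ^ (m + 1) + 1, 2 ^ (2 * m + 1) - 2 ^ (m + 1) + 1]
  let es : Fin 3 → ℕ := ![2, 4, 4]
  let X : Fin 3 → Type _ := fun j => Σ U : {U // Fix (ks j) x U},
    {y : ↥(Subgroup.normalizer (U.1 : Set ↥(Cfsg.Sz F m))) // (y : ↥(Cfsg.Sz F m)) ∉ NP}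
  have hke : ∀ j, ks j = 2 ^ (2 * m + 1) - 1 ∧ es j = 2 ∨
      ks j ∈ ({2 ^ (2 * m + 1) + 2 ^ (m + 1) + 1, 2 ^ (2 * m + 1) - 2 ^ (m + 1) + 1} : Set ℕ) ∧ es j = 4 := by
    intro j
    fin_cases j
    · exact Or.inl ⟨rfl, rfl⟩
    · exact Or.inr ⟨Set.mem_insert _ _, rfl⟩
    · exact Or.inr ⟨Set.mem_insert_of_mem _ rfl, rfl⟩
  have hkmem : ∀ j, ks j ∈ ({2 ^ (2 * m + 1) - 1, 2 ^ (2 * m + 1) + 2 ^ (m + 1) + 1,
      2 ^ (2 * m + 1) - 2 ^ (m + 1) + 1} : Set ℕ) := by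
    intro j
    rcases hke j with ⟨e, -⟩ | ⟨e, -⟩
    exacts [e ▸ Set.mem_insert _ _, Set.mem_insert_of_mem _ e]
  have hksinj : Function.Injective ks := by
    have h4 : 4 ≤ 2 ^ (m + 1) := by
      calc 4 = 2 ^ 2 := rfl
        _ ≤ _ := Nat.pow_le_pow_right (by norm_num) (by have := h.one_le; omega)
    have h5 : 2 ^ (m + 1) ≤ 2 ^ (2 * m + 1) := Nat.pow_le_pow_right (by norm_num) (by omega)
    intro a b e
    fin_cases a <;> fin_cases b <;> simp [ks] at e ⊢ <;> omega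
  have hxN : x ∈ NP := Subgroup.le_normalizer hxP
  let G' : ↥NP ⊕ (Σ j, X j) → {y // Sol x y} := Sum.elim
    (fun y => ⟨y.1, (sol_iff h hx1 y.1).2 ⟨_, Or.inl ⟨P, rfl⟩, hxN, y.2⟩⟩)
    (fun p => ⟨p.2.2.1.1, (sol_iff h hx1 _).2 ⟨p.2.1.1, Or.inr ⟨p.2.1.2.1.1, (by rw [p.2.1.2.1.2]; exact hkmem p.1)⟩,
      p.2.1.2.2, p.2.2.1.2⟩⟩)
  have hbij : Function.Bijective G' := by
    constructor
    · rintro (⟨y, hy⟩ | ⟨j, ⟨U, hU⟩, ⟨y, hy⟩, hy'⟩) (⟨z, hz⟩ | ⟨i, ⟨V, hV⟩, ⟨z, hz⟩, hz'⟩) e <;>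
        have e' := congrArg Subtype.val e <;> simp only [G', Sum.elim_inl, Sum.elim_inr] at e'
      · subst e'; rfl
      · exact absurd (e' ▸ hy) hz'
      · exact absurd (e'.symm ▸ hz) hy'
      · subst e'
        have hUV : U = V := unique_outside h hx1 hx hxP hU.1.1 (hU.1.2 ▸ hkmem j) hV.1.1 (hV.1.2 ▸ hkmem i)
          hU.2 hV.2 hy hz hy'
        subst hUV
        obtain rfl : j = i := hksinj (hU.1.2.symm.trans hV.1.2)
        rfl
    · rintro ⟨y, hy⟩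
      by_cases hyP : y ∈ NP
      · exact ⟨Sum.inl ⟨y, hyP⟩, rfl⟩
      obtain ⟨U, hU, hxU, hyU⟩ := (sol_iff h hx1 y).1 hy
      rcases hU with ⟨Q, rfl⟩ | ⟨hc, hk⟩
      · refine absurd ?_ hyP
        have e := fam_unique h (Or.inl ⟨Q, rfl⟩) (Or.inl ⟨P, rfl⟩) (sylow_mem_normalizer h Q hxU hx) hxP hx1
        rwa [hNP, ← e]
      obtain ⟨j, hj⟩ : ∃ j, ks j = Nat.card ↥U := by
        rcases hk with e | e | e
        exacts [⟨0, e.symm⟩, ⟨1, e.symm⟩, ⟨2, e.symm⟩]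
      exact ⟨Sum.inr ⟨j, ⟨U, ⟨hc, hj.symm⟩, hxU⟩, ⟨y, hyU⟩, hyP⟩, rfl⟩
  have hX : ∀ j, Nat.card (X j) = Nat.card {U // Fix (ks j) x U} * (es j * ks j - es j) := by
    intro j
    let := Fintype.ofFinite {U // Fix (ks j) x U}
    rw [Nat.card_sigma, Finset.sum_congr rfl (fun U _ => card_inter h hx1 hx hxP (hke j) U.2), Finset.sum_const,
      Finset.card_univ, smul_eq_mul, ← Nat.card_eq_fintype_card]
  have hcN : Nat.card ↥NP = (2 ^ (2 * m + 1)) ^ 2 * (2 ^ (2 * m + 1) - 1) := by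
    obtain ⟨t, ht⟩ := sylow_point h P
    rw [hNP, normalizer_sylow h ht, card_stab_point h]
  rw [← Nat.card_eq_of_bijective G' hbij, Nat.card_sum, Nat.card_sigma, Fin.sum_univ_three, hX, hX, hX, hcN,
    ← add_assoc, ← add_assoc]
  rfl

end TwoElement

theorem sol_involution {x : ↥(Cfsg.Sz F m)} {i : ℕ} (hi : i = 2 ∨ i = 4) (ho : orderOf x = i) :
    Nat.card {y // Sol x y} = if i = 2 then (2 ^ (2 * m + 1)) ^ 2 * (4 * 2 ^ (2 * m + 1) - 3)
      else (2 ^ (2 * m + 1)) ^ 2 * (2 ^ (2 * m + 1) + 3) := by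
  have := finite_sz h
  have hx1 : x ≠ 1 := fun e => by rw [e, orderOf_one] at ho; omega
  have hx : x ^ 4 = 1 := orderOf_dvd_iff_pow_eq_one.1 (by rw [ho]; rcases hi with rfl | rfl <;> norm_num)
  obtain ⟨U, ⟨hU, hxU⟩, -⟩ := partition h hx1
  obtain ⟨P, rfl⟩ := sylow_of_two_element h hU hxU hx1 hx
  rw [card_sol_two h hx1 hx hxU]
  have fA := fix_count h (Or.inl ⟨rfl, rfl⟩) hi ho
  have fP := fix_count h (Or.inr ⟨Set.mem_insert _ _, rfl⟩) hi ho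
  have fM := fix_count h (Or.inr ⟨Set.mem_insert_of_mem _ rfl, rfl⟩) hi ho
  obtain ⟨-, hkm, hkp, -, -, hq1, -, -, -⟩ := orders h.one_le
  have hle : 2 ^ (m + 1) ≤ 2 ^ (2 * m + 1) := Nat.pow_le_pow_right (by norm_num) (by omega)
  generalize Nat.card {U // Fix (2 ^ (2 * m + 1) - 1) x U} = a at fA ⊢
  generalize Nat.card {U // Fix (2 ^ (2 * m + 1) + 2 ^ (m + 1) + 1) x U} = b at fP ⊢
  generalize Nat.card {U // Fix (2 ^ (2 * m + 1) - 2 ^ (m + 1) + 1) x U} = c at fM ⊢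
  generalize 2 ^ (2 * m + 1) = q at *
  generalize 2 ^ (m + 1) = r at *
  obtain ⟨d, rfl⟩ : ∃ d, q = d + r := ⟨q - r, by omega⟩
  rw [Nat.add_sub_cancel]
  obtain ⟨p, hp⟩ : ∃ p, d + r = p + 2 := ⟨d + r - 2, by omega⟩
  rw [show 2 * (d + r - 1) - 2 = 2 * p by omega, show 4 * (d + r + r + 1) - 4 = 4 * (d + r + r) by omega,
    show 4 * (d + 1) - 4 = 4 * d by omega, show d + r - 1 = p + 1 by omega]
  rcases hi with rfl | rfl
  · simp only [↓reduceIte, one_mul, mul_one] at fA fP fM ⊢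
    rw [show 4 * (d + r) - 3 = 4 * p + 5 by omega]
    calc (d + r) ^ 2 * (p + 1) + a * (2 * p) + b * (4 * (d + r + r)) + c * (4 * d)
        = (d + r) ^ 2 * (p + 1) + (a * 2) * p + (b * 4) * (d + r + r) + (c * 4) * d := by ring
      _ = (d + r) ^ 2 * (p + 1 + p + 2 * (d + r)) := by rw [fA, fP, fM]; ring
      _ = (d + r) ^ 2 * (4 * p + 5) := by congr 1; omega
  · simp only [show (4 : ℕ) ≠ 2 by norm_num, if_false, show (4 : ℕ) - 2 = 2 from rfl, Nat.sub_self, zero_mul] at fA fP fM ⊢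
    have hq0 : 0 < d + r := by omega
    have ha : a = 0 := by
      rcases mul_eq_zero.1 fA with e | e
      · exact (mul_eq_zero.1 e).resolve_right hq0.ne'
      · omega
    have hb : b * 4 = 2 * (d + r) := Nat.eq_of_mul_eq_mul_left hq0 (by linarith)
    have hc : c * 4 = 2 * (d + r) := Nat.eq_of_mul_eq_mul_left hq0 (by linarith)
    subst ha
    calc (d + r) ^ 2 * (p + 1) + 0 * (2 * p) + b * (4 * (d + r + r)) + c * (4 * d)
        = (d + r) ^ 2 * (p + 1) + (b * 4) * (d + r + r) + (c * 4) * d := by ring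
      _ = (d + r) ^ 2 * (p + 1 + 4) := by rw [hb, hc]; ring
      _ = (d + r) ^ 2 * (d + r + 3) := by congr 1; omega

theorem sol_torus {x : ↥(Cfsg.Sz F m)} (hx1 : x ≠ 1) {k : ℕ}
    (hk : k ∈ ({2 ^ (2 * m + 1) + 2 ^ (m + 1) + 1, 2 ^ (2 * m + 1) - 2 ^ (m + 1) + 1} : Set ℕ))
    (hd : orderOf x ∣ k) : Nat.card {y // Sol x y} = 4 * k := by
  have := finite_sz h
  obtain ⟨hprod, hkm, hkp, hcop, hcop', hq1, hop, hom, hoq⟩ := orders h.one_le
  have hkmem := Set.mem_insert_of_mem (2 ^ (2 * m + 1) - 1) hk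
  have hodd : Odd (orderOf x) := (k_facts h hkmem).2.1.of_dvd_nat hd
  have hx4 : x ^ 4 ≠ 1 := fun e => hx1 (orderOf_eq_one_iff.1
    (Nat.eq_one_of_dvd_coprimes ((Nat.coprime_two_right.2 hodd).pow_right 2) dvd_rfl (orderOf_dvd_of_pow_eq_one e)))
  have hksq : k ∣ (2 ^ (2 * m + 1)) ^ 2 + 1 := by
    rcases hk with rfl | rfl
    exacts [hprod ▸ dvd_mul_right _ _, hprod ▸ dvd_mul_left _ _]
  obtain ⟨U, ⟨hU, hxU⟩, -⟩ := partition h hx1
  have hnotP : ∀ Q : Sylow 2 ↥(Cfsg.Sz F m),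
      x ∉ Subgroup.normalizer ((Q : Subgroup ↥(Cfsg.Sz F m)) : Set ↥(Cfsg.Sz F m)) := by
    intro Q hQ
    obtain ⟨t, ht⟩ := sylow_point h Q
    rw [normalizer_sylow h ht] at hQ
    have hd2 := Subgroup.orderOf_dvd_natCard _ hQ
    rw [card_stab_point h] at hd2
    refine hx1 (orderOf_eq_one_iff.1 (Nat.eq_one_of_dvd_coprimes ?_ hd hd2))
    refine Nat.Coprime.mul_right ?_ (hcop'.coprime_dvd_right hksq).symm
    rw [← pow_mul]
    exact (Nat.coprime_two_right.2 (k_facts h hkmem).2.1).pow_right _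
  rcases hU with ⟨Q, rfl⟩ | ⟨hc, hUk⟩
  · exact absurd (Subgroup.le_normalizer hxU) (hnotP Q)
  have hUk' : Nat.card ↥U = k := by
    have hd1 := Subgroup.orderOf_dvd_natCard U hxU
    have hone : ∀ a, Nat.Coprime a k → Nat.card ↥U = a → False := fun a ha e =>
      hx1 (orderOf_eq_one_iff.1 (Nat.eq_one_of_dvd_coprimes ha (e ▸ hd1) hd))
    rcases hUk with e | e | e
    · exact (hone _ (hcop'.coprime_dvd_right hksq) e).elim
    · rcases hk with rfl | rfl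
      · exact e
      · exact (hone _ hcop.symm e).elim
    · rcases hk with rfl | rfl
      · exact (hone _ hcop e).elim
      · exact e
  have hiff : ∀ y, Sol x y ↔ y ∈ Subgroup.normalizer (U : Set ↥(Cfsg.Sz F m)) := by
    intro y
    rw [sol_iff h hx1]
    constructor
    · rintro ⟨V, hV, hxV, hyV⟩
      rcases hV with ⟨Q, rfl⟩ | ⟨hVc, hVk⟩
      · exact absurd hxV (hnotP Q)
      rwa [fam_unique h (Or.inr ⟨hc, hUk⟩) (Or.inr ⟨hVc, hVk⟩) hxU (odd_mem h hVc hVk hxV hodd) hx1]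
    · exact fun hy => ⟨U, Or.inr ⟨hc, hUk⟩, Subgroup.le_normalizer hxU, hy⟩
  rw [Nat.card_congr (Equiv.subtypeEquivRight hiff)]
  exact ((card_normalizer_cyc h hc).2 (hUk' ▸ hk)).trans (by rw [hUk'])

theorem sol_split {x : ↥(Cfsg.Sz F m)} (hx1 : x ≠ 1) (hd : orderOf x ∣ 2 ^ (2 * m + 1) - 1) :
    Nat.card {y // Sol x y} = 2 * (2 ^ (2 * m + 1)) ^ 2 * (2 ^ (2 * m + 1) - 1) := by
  classical
  have := finite_sz h
  obtain ⟨hprod, hkm, hkp, hcop, hcop', hq1, hop, hom, hoq⟩ := orders h.one_le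
  have hodd : Odd (orderOf x) := (k_facts h (Set.mem_insert _ _)).2.1.of_dvd_nat hd
  obtain ⟨t, ht⟩ := forms h hx1
  have hto : orderOf (t * x * t⁻¹) = orderOf x := by rw [← MulAut.conj_apply, MulEquiv.orderOf_eq]
  rcases ht with ⟨a, b, -, e⟩ | ⟨k, hk, e⟩ | hf
  · exfalso
    refine hx1 (orderOf_eq_one_iff.1 (Nat.eq_one_of_dvd_coprimes ((Nat.coprime_two_right.2 hodd).pow_right 2)
      dvd_rfl ?_))
    rw [← hto, e]
    exact orderOf_dvd_of_pow_eq_one (uEl_pow_four h a b)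
  swap
  · exfalso
    have h1 := Subgroup.orderOf_dvd_natCard (Subgroup.centralizer {t * x * t⁻¹})
      (Subgroup.mem_centralizer_singleton_iff.2 (rfl : t * x * t⁻¹ * (t * x * t⁻¹) = t * x * t⁻¹ * (t * x * t⁻¹)))
    rw [hto] at h1
    have h2 : Nat.card ↥(Subgroup.centralizer {t * x * t⁻¹}) ∣ (2 ^ (2 * m + 1)) ^ 2 + 1 :=
      card_centralizer_dvd h hf
    exact hx1 (orderOf_eq_one_iff.1 (Nat.eq_one_of_dvd_coprimes hcop' hd (h1.trans h2)))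
  rw [← card_sol_conj h t x, e]
  have hh1 : hEl h k ≠ 1 := fun e' => hk (hEl_inj h (e'.trans (hEl_one h).symm))
  have hho : Odd (orderOf (hEl h k)) := by rw [← e, hto]; exact hodd
  have hfix : ∀ p, hEl h k • p = p → p = inf' F m ∨ p = pt m (0 : F) 0 := by
    intro p hp
    by_contra hne
    push Not at hne
    exact hk (hEl_inj h ((three_fixed h (inf_pt_zero_ne h) hne.2.symm hne.1.symm (hEl_smul_inf h k)
      (hEl_smul_zero h k) hp).trans (hEl_one h).symm))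
  set S0 := MulAction.stabilizer ↥(Cfsg.Sz F m) (inf' F m) with hS0
  set S1 := MulAction.stabilizer ↥(Cfsg.Sz F m) (pt m (0 : F) 0) with hS1
  have hsolS : ∀ p : Cfsg.suzukiOvoid F m, hEl h k • p = p → ∀ y, y • p = p → Sol (hEl h k) y := by
    intro p hp y hy
    have hle : Subgroup.closure ({hEl h k, y} : Set ↥(Cfsg.Sz F m)) ≤ MulAction.stabilizer ↥(Cfsg.Sz F m) p :=
      (Subgroup.closure_le _).2 (by
        rintro z (rfl | rfl)
        exacts [hp, hy])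
    have := solvable_two_point h p
    exact Group.isSolvable_of_isSolvable_injective (Subgroup.inclusion_injective hle)
  have hH0 : ∀ g ∈ hGrp h, g ∈ S0 ∧ g ∈ S1 := by
    rintro g ⟨l, rfl⟩
    exact ⟨hEl_smul_inf h l, hEl_smul_zero h l⟩
  have hwH : ∀ g ∈ hGrp h, wEl h * g ∉ S0 ∧ wEl h * g ∉ S1 := by
    rintro g ⟨l, rfl⟩
    refine ⟨fun e' => ?_, fun e' => ?_⟩
    · rw [hS0, MulAction.mem_stabilizer_iff, mul_smul, MonoidHom.mk'_apply, hEl_smul_inf, wEl_smul_inf] at e'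
      exact pt_ne_inf _ _ e'
    · rw [hS1, MulAction.mem_stabilizer_iff, mul_smul, MonoidHom.mk'_apply, hEl_smul_zero, wEl_smul_zero] at e'
      exact pt_ne_inf _ _ e'.symm
  have hiff : ∀ y, Sol (hEl h k) y ↔ y ∈ S0 ∨ y ∈ S1 ∨ wEl h * y ∈ hGrp h := by
    intro y
    constructor
    · intro hy
      obtain ⟨V, hV, hxV, hyV⟩ := (sol_iff h hh1 y).1 hy
      rcases hV with ⟨Q, rfl⟩ | ⟨hVc, hVk⟩
      · obtain ⟨s, hs⟩ := sylow_point h Q
        rw [normalizer_sylow h hs] at hxV hyV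
        rcases hfix _ hxV with e' | e'
        · exact Or.inl (by rw [hS0, ← e']; exact hyV)
        · exact Or.inr (Or.inl (by rw [hS1, ← e']; exact hyV))
      · have e' := fam_unique h (Or.inr ⟨hVc, hVk⟩) (fam_hGrp h) (odd_mem h hVc hVk hxV hho) ⟨k, rfl⟩ hh1
        rw [e'] at hyV
        rcases hGrp_normalizer_cases h hyV with h' | h'
        · exact Or.inl (hH0 y h').1
        · exact Or.inr (Or.inr h')
    · rintro (hy | hy | hy)
      · exact hsolS _ (hEl_smul_inf h k) y hy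
      · exact hsolS _ (hEl_smul_zero h k) y hy
      · refine (sol_iff h hh1 y).2 ⟨hGrp h, fam_hGrp h, Subgroup.le_normalizer ⟨k, rfl⟩, ?_⟩
        have := mul_mem (wEl_mem_normalizer h) (Subgroup.le_normalizer hy)
        rwa [← mul_assoc, wEl_sq, one_mul] at this
  have hS01 : ∀ y, y ∈ S0 → y ∈ S1 → y ∈ hGrp h := fun y h0 h1 => by
    obtain ⟨l, hl⟩ := fix_two h h0 h1
    exact ⟨l, hl.symm⟩
  let Φ : ↥S0 ⊕ ↥S1 → {y // Sol (hEl h k) y} := Sum.elim (fun y => ⟨y.1, (hiff _).2 (Or.inl y.2)⟩)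
    (fun y => if hy : y.1 ∈ hGrp h then ⟨wEl h * y.1, (hiff _).2 (Or.inr (Or.inr (by
      rw [← mul_assoc, wEl_sq, one_mul]; exact hy)))⟩ else ⟨y.1, (hiff _).2 (Or.inr (Or.inl y.2))⟩)
  have hbij : Function.Bijective Φ := by
    constructor
    · rintro (⟨a, ha⟩ | ⟨a, ha⟩) (⟨b, hb⟩ | ⟨b, hb⟩) e' <;> simp only [Φ, Sum.elim_inl, Sum.elim_inr] at e'
      · obtain rfl : a = b := congrArg Subtype.val e'; rfl
      · exfalso
        split_ifs at e' with hbH <;> simp only [Subtype.mk.injEq] at e'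
        · exact (hwH b hbH).1 (e' ▸ ha)
        · exact hbH (hS01 b (e' ▸ ha) hb)
      · exfalso
        split_ifs at e' with haH <;> simp only [Subtype.mk.injEq] at e'
        · exact (hwH a haH).1 (e' ▸ hb)
        · exact haH (hS01 a (e' ▸ hb) ha)
      · split_ifs at e' with haH hbH hbH <;> simp only [Subtype.mk.injEq] at e'
        · obtain rfl : a = b := mul_left_cancel e'; rfl
        · exact absurd (e' ▸ hb) (hwH a haH).2
        · exact absurd (e'.symm ▸ ha) (hwH b hbH).2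
        · subst e'; rfl
    · rintro ⟨y, hy⟩
      rcases (hiff y).1 hy with h0 | h1 | h2
      · exact ⟨Sum.inl ⟨y, h0⟩, rfl⟩
      · by_cases hyH : y ∈ hGrp h
        · exact ⟨Sum.inl ⟨y, (hH0 y hyH).1⟩, rfl⟩
        · exact ⟨Sum.inr ⟨y, h1⟩, by simp only [Φ, Sum.elim_inr, dif_neg hyH]⟩
      · refine ⟨Sum.inr ⟨wEl h * y, (hH0 _ h2).2⟩, ?_⟩
        simp only [Φ, Sum.elim_inr, dif_pos h2]
        apply Subtype.ext
        show wEl h * (wEl h * y) = y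
        rw [← mul_assoc, wEl_sq, one_mul]
  rw [← Nat.card_eq_of_bijective Φ hbij, Nat.card_sum, hS0, hS1, card_stab_point h, card_stab_point h]
  ring

omit h in
/-- transport to the Suzuki group inside the symplectic group -/
theorem lie_statement {F : Type*} [Field F] [Fintype F] {m : ℕ} (hm : 1 ≤ m)
    (hF : Fintype.card F = 2 ^ (2 * m + 1)) (x : ↥(Cfsg.Lie.Sz F (2 ^ (m + 1)))) :
    (orderOf x = 2 → Nat.card {y : ↥(Cfsg.Lie.Sz F (2 ^ (m + 1))) // Group.IsSolvable ↥(Subgroup.closure ({x, y} : Set (↥(Cfsg.Lie.Sz F (2 ^ (m + 1))))))} = (2 ^ (2 * m + 1)) ^ 2 * (4 * 2 ^ (2 * m + 1) - 3)) ∧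
    (orderOf x = 4 → Nat.card {y : ↥(Cfsg.Lie.Sz F (2 ^ (m + 1))) // Group.IsSolvable ↥(Subgroup.closure ({x, y} : Set (↥(Cfsg.Lie.Sz F (2 ^ (m + 1))))))} = (2 ^ (2 * m + 1)) ^ 2 * (2 ^ (2 * m + 1) + 3)) ∧
    (x ≠ 1 → orderOf x ∣ 2 ^ (2 * m + 1) - 1 →
      Nat.card {y : ↥(Cfsg.Lie.Sz F (2 ^ (m + 1))) // Group.IsSolvable ↥(Subgroup.closure ({x, y} : Set (↥(Cfsg.Lie.Sz F (2 ^ (m + 1))))))} = 2 * (2 ^ (2 * m + 1)) ^ 2 * (2 ^ (2 * m + 1) - 1)) ∧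
    (x ≠ 1 → orderOf x ∣ 2 ^ (2 * m + 1) + 2 ^ (m + 1) + 1 → Nat.card {y : ↥(Cfsg.Lie.Sz F (2 ^ (m + 1))) // Group.IsSolvable ↥(Subgroup.closure ({x, y} : Set (↥(Cfsg.Lie.Sz F (2 ^ (m + 1))))))} = 4 * (2 ^ (2 * m + 1) + 2 ^ (m + 1) + 1)) ∧
    (x ≠ 1 → orderOf x ∣ 2 ^ (2 * m + 1) - 2 ^ (m + 1) + 1 → Nat.card {y : ↥(Cfsg.Lie.Sz F (2 ^ (m + 1))) // Group.IsSolvable ↥(Subgroup.closure ({x, y} : Set (↥(Cfsg.Lie.Sz F (2 ^ (m + 1))))))} = 4 * (2 ^ (2 * m + 1) - 2 ^ (m + 1) + 1)) := by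
  have h : Ctx F m := ⟨hm, by rw [Nat.card_eq_fintype_card, hF]⟩
  let φ := lieEquiv h
  obtain ⟨x₀, rfl⟩ := φ.surjective x
  have hcard : Nat.card {y : ↥(Cfsg.Lie.Sz F (2 ^ (m + 1))) //
      Group.IsSolvable ↥(Subgroup.closure ({φ x₀, y} : Set (↥(Cfsg.Lie.Sz F (2 ^ (m + 1))))))} =
      Nat.card {y // Sol x₀ y} := by
    refine (Nat.card_congr (φ.toEquiv.subtypeEquiv fun y => ?_)).symm
    have e : (Subgroup.closure ({x₀, y} : Set ↥(Cfsg.Sz F m))).map φ.toMonoidHom =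
        Subgroup.closure ({φ x₀, φ y} : Set (↥(Cfsg.Lie.Sz F (2 ^ (m + 1))))) := by
      rw [MonoidHom.map_closure, Set.image_pair]
      rfl
    show Sol x₀ y ↔ Group.IsSolvable ↥(Subgroup.closure ({φ x₀, φ y} : Set (↥(Cfsg.Lie.Sz F (2 ^ (m + 1))))))
    rw [← e]
    let f := (Subgroup.closure ({x₀, y} : Set ↥(Cfsg.Sz F m))).equivMapOfInjective φ.toMonoidHom φ.injective
    unfold Sol
    exact ⟨fun _ => Group.isSolvable_of_surjective (f := f.toMonoidHom) f.surjective,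
      fun _ => Group.isSolvable_of_isSolvable_injective (f := f.toMonoidHom) f.injective⟩
  rw [hcard, MulEquiv.orderOf_eq, map_ne_one_iff φ φ.injective]
  exact ⟨fun e => (sol_involution h (Or.inl rfl) e).trans (if_pos rfl),
    fun e => (sol_involution h (Or.inr rfl) e).trans (if_neg (by norm_num)),
    fun h1 hd => sol_split h h1 hd, fun h1 hd => sol_torus h h1 (Set.mem_insert _ _) hd,
    fun h1 hd => sol_torus h h1 (Set.mem_insert_of_mem _ rfl) hd⟩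

end Cfsg.Agent.KnownA.SzMembers
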