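import Cfsg.Agent.KnownA.SzSubgroups
import Cfsg.Agent.KnownA.Ree.Generic

/-!
The members of the partition of a Suzuki group: centralisers, normalisers and the structure of the
normalisers of the cyclic members.
-/

set_option autoImplicit false

namespace Cfsg.Agent.KnownA.SzMembers

open Cfsg.Agent.Suzuki Cfsg.Agent.KnownA.SzSubgroups Cfsg.Agent.KnownA.ReeLocal
open scoped Pointwise

variable {F : Type*} [Field F] {m : ℕ} (h : Ctx F m)

/-- the diagonal subgroup -/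
def hGrp : Subgroup ↥(Cfsg.Sz F m) := (MonoidHom.mk' (hEl h) (hEl_mul h)).range

include h

theorem mem_hGrp {g : ↥(Cfsg.Sz F m)} : g ∈ hGrp h ↔ ∃ k : Fˣ, hEl h k = g := Iff.rfl

theorem card_hGrp : Nat.card ↥(hGrp h) = 2 ^ (2 * m + 1) - 1 := by
  have := h.finite
  rw [hGrp, Nat.card_congr (MonoidHom.ofInjective (f := MonoidHom.mk' (hEl h) (hEl_mul h)) (hEl_inj h)).symm.toEquiv,
    Nat.card_units, h.card]

theorem cyclic_hGrp : IsCyclic ↥(hGrp h) := by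
  have := h.finite
  exact isCyclic_of_surjective (MonoidHom.mk' (hEl h) (hEl_mul h)).rangeRestrict
    (MonoidHom.mk' (hEl h) (hEl_mul h)).rangeRestrict_surjective

theorem fam_hGrp : Fam (hGrp h) := Or.inr ⟨cyclic_hGrp h, card_hGrp h ▸ Set.mem_insert _ _⟩

/-- centralisers lie in members -/
theorem cent_le {U : Subgroup ↥(Cfsg.Sz F m)} (hU : Fam U) {a : ↥(Cfsg.Sz F m)} (ha : a ∈ U) (ha1 : a ≠ 1) :
    Subgroup.centralizer {a} ≤ U := by
  obtain ⟨t, ht⟩ := forms h ha1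
  obtain ⟨V, -, huniq⟩ := unique_of_forms h ht
  have hUV := huniq _ ⟨fam_conj h hU t, (mem_conj_map h).2 ha⟩
  intro c hc
  rw [Subgroup.mem_centralizer_singleton_iff] at hc
  have hc' : t * c * t⁻¹ * (t * a * t⁻¹) = t * a * t⁻¹ * (t * c * t⁻¹) := by
    calc t * c * t⁻¹ * (t * a * t⁻¹) = t * (c * a) * t⁻¹ := by group
      _ = t * (a * c) * t⁻¹ := by rw [hc]
      _ = _ := by group
  have hcV : t * c * t⁻¹ ∈ V := by
    rcases ht with ⟨x, y, hxy, e⟩ | ⟨k, hk, e⟩ | hf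
    · rw [← huniq (uGrp h) ⟨Or.inl ⟨uSylow h, (uSylow_coe h).symm⟩, e ▸ uEl_mem h x y⟩]
      rw [e] at hc'
      obtain ⟨x', y', e'⟩ := comm_uEl h hxy hc'
      exact e' ▸ uEl_mem h x' y'
    · rw [← huniq (hGrp h) ⟨fam_hGrp h, ⟨k, e.symm⟩⟩]
      rw [e] at hc'
      obtain ⟨l, hl⟩ := comm_hEl h hk hc'
      exact ⟨l, hl.symm⟩
    · rw [← huniq (Subgroup.centralizer {t * a * t⁻¹}) ⟨Or.inr ⟨centralizer_cyclic h hf,
        Set.mem_insert_of_mem _ (card_torus h hf)⟩, Subgroup.mem_centralizer_singleton_iff.2 rfl⟩]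
      exact Subgroup.mem_centralizer_singleton_iff.2 hc'
  rw [← hUV] at hcV
  exact (mem_conj_map h).1 hcV

theorem fam_unique {U V : Subgroup ↥(Cfsg.Sz F m)} (hU : Fam U) (hV : Fam V) {a : ↥(Cfsg.Sz F m)} (haU : a ∈ U) (haV : a ∈ V)
    (ha1 : a ≠ 1) : U = V :=
  (partition h ha1).unique ⟨hU, haU⟩ ⟨hV, haV⟩

/-- moving a non-trivial element inside a member normalises it -/
theorem mem_normalizer_of {U : Subgroup ↥(Cfsg.Sz F m)} (hU : Fam U) {a g : ↥(Cfsg.Sz F m)} (ha : a ∈ U) (ha1 : a ≠ 1)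
    (hga : g * a * g⁻¹ ∈ U) : g ∈ Subgroup.normalizer (U : Set ↥(Cfsg.Sz F m)) := by
  have e := fam_unique h (fam_conj h hU g) hU ((mem_conj_map h).2 ha) hga (fun e => ha1 (conj_eq_one_iff.1 e))
  refine Subgroup.mem_normalizer_iff.2 fun x => ?_
  conv_rhs => rw [← e]
  exact (mem_conj_map h).symm

/-- a solvable subgroup normalises a member -/
theorem solvable_le {S : Subgroup ↥(Cfsg.Sz F m)} (hS : Group.IsSolvable ↥S) (hne : S ≠ ⊥) :
    ∃ U : Subgroup ↥(Cfsg.Sz F m), Fam U ∧ S ≤ Subgroup.normalizer (U : Set ↥(Cfsg.Sz F m)) := by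
  have := finite_sz h
  obtain ⟨r, -, A, hA, hc, -, hSA⟩ := exists_elementary hS hne
  obtain ⟨a, ha, ha1⟩ := (Subgroup.bot_or_exists_ne_one A).resolve_left hA
  obtain ⟨U, ⟨hU, haU⟩, -⟩ := partition h ha1
  have hAU : A ≤ U := fun b hb => cent_le h hU haU ha1 (Subgroup.mem_centralizer_singleton_iff.2 (hc b hb a ha))
  exact ⟨U, hU, fun g hg => mem_normalizer_of h hU haU ha1
    (hAU ((Subgroup.mem_normalizer_iff.1 (hSA hg) a).1 ha))⟩

theorem k_facts {k : ℕ} (hk : k ∈ ({2 ^ (2 * m + 1) - 1, 2 ^ (2 * m + 1) + 2 ^ (m + 1) + 1,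
      2 ^ (2 * m + 1) - 2 ^ (m + 1) + 1} : Set ℕ)) :
    5 ≤ k ∧ Odd k ∧ k ∣ Nat.card ↥(Cfsg.Sz F m) := by
  obtain ⟨hprod, hkm, hkp, -, -, hq1, hop, hom, hoq⟩ := orders h.one_le
  rw [card_sz h]
  rcases hk with rfl | rfl | rfl
  · exact ⟨hq1, Nat.odd_iff.2 (by omega), dvd_mul_left _ _⟩
  · exact ⟨hkp, Nat.odd_iff.2 (by omega), Dvd.dvd.mul_right (Dvd.dvd.mul_left (hprod ▸ dvd_mul_right _ _) _) _⟩
  · exact ⟨hkm, Nat.odd_iff.2 (by omega), Dvd.dvd.mul_right (Dvd.dvd.mul_left (hprod ▸ dvd_mul_left _ _) _) _⟩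

theorem hGrp_normalizer_cases {g : ↥(Cfsg.Sz F m)} (hg : g ∈ Subgroup.normalizer (hGrp h : Set ↥(Cfsg.Sz F m))) :
    g ∈ hGrp h ∨ wEl h * g ∈ hGrp h := by
  have := h.finite
  have hq : 1 < Nat.card ↥(hGrp h) := by
    have := (k_facts h (Set.mem_insert (2 ^ (2 * m + 1) - 1) _)).1
    rw [card_hGrp h]; omega
  obtain ⟨⟨_, k, rfl⟩, hk1⟩ := @exists_ne ↥(hGrp h) (Finite.one_lt_card_iff_nontrivial.1 hq) 1
  have hkne : k ≠ 1 := fun e => hk1 (Subtype.ext (by show hEl h k = 1; rw [e, hEl_one]))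
  have hfix : ∀ p, hEl h k • p = p → p = inf' F m ∨ p = pt m (0 : F) 0 := by
    intro p hp
    by_contra hne
    push Not at hne
    exact hkne (hEl_inj h ((three_fixed h (inf_pt_zero_ne h) hne.2.symm hne.1.symm (hEl_smul_inf h k)
      (hEl_smul_zero h k) hp).trans (hEl_one h).symm))
  have hmv : ∀ p, (∀ l, hEl h l • p = p) → g • p = inf' F m ∨ g • p = pt m (0 : F) 0 := by
    intro p hp
    obtain ⟨l, hl⟩ := (Subgroup.mem_normalizer_iff''.1 hg (hEl h k)).1 ⟨k, rfl⟩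
    refine hfix _ ?_
    rw [show hEl h k = g * (g⁻¹ * hEl h k * g) * g⁻¹ by group]
    rw [← show hEl h l = g⁻¹ * hEl h k * g from hl]
    rw [mul_smul, mul_smul, inv_smul_smul, hp]
  rcases hmv _ (fun l => hEl_smul_inf h l) with e0 | e0 <;>
    rcases hmv _ (fun l => hEl_smul_zero h l) with e1 | e1
  · exact absurd (smul_left_cancel g (e1.trans e0.symm)) (pt_ne_inf _ _)
  · left
    obtain ⟨l, hl⟩ := fix_two h e0 e1
    exact ⟨l, hl.symm⟩
  · right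
    obtain ⟨l, hl⟩ := fix_two h (g := wEl h * g) (by rw [mul_smul, e0, wEl_smul_zero])
      (by rw [mul_smul, e1, wEl_smul_inf])
    exact ⟨l, hl.symm⟩
  · exact absurd (smul_left_cancel g (e1.trans e0.symm)) (pt_ne_inf _ _)

theorem wEl_mem_normalizer : wEl h ∈ Subgroup.normalizer (hGrp h : Set ↥(Cfsg.Sz F m)) := by
  have hw : (wEl h)⁻¹ = wEl h := inv_eq_of_mul_eq_one_right (wEl_sq h)
  refine Subgroup.mem_normalizer_iff.2 fun x => ⟨?_, ?_⟩
  · rintro ⟨k, rfl⟩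
    refine ⟨k⁻¹, ?_⟩
    show hEl h k⁻¹ = wEl h * hEl h k * (wEl h)⁻¹
    rw [hw, wEl_conj, hEl_inv]
  · rintro ⟨k, hk⟩
    refine ⟨k⁻¹, ?_⟩
    show hEl h k⁻¹ = x
    rw [← hEl_inv, ← wEl_conj, show hEl h k = wEl h * x * (wEl h)⁻¹ from hk, hw,
      show wEl h * (wEl h * x * wEl h) * wEl h = (wEl h * wEl h) * x * (wEl h * wEl h) by group, wEl_sq,
      one_mul, mul_one]

theorem wEl_not_mem : wEl h ∉ hGrp h := by
  rintro ⟨k, hk⟩
  have := congrArg (· • inf' F m) hk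
  simp only [MonoidHom.mk'_apply, hEl_smul_inf, wEl_smul_inf] at this
  exact pt_ne_inf _ _ this.symm

theorem card_normalizer_hGrp :
    Nat.card ↥(Subgroup.normalizer (hGrp h : Set ↥(Cfsg.Sz F m))) = 2 * (2 ^ (2 * m + 1) - 1) := by
  have hle : hGrp h ≤ Subgroup.normalizer (hGrp h : Set ↥(Cfsg.Sz F m)) := Subgroup.le_normalizer
  let F' : Bool × ↥(hGrp h) → ↥(Subgroup.normalizer (hGrp h : Set ↥(Cfsg.Sz F m))) := fun p =>
    ⟨if p.1 then wEl h * p.2.1 else p.2.1, by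
      split_ifs; exacts [mul_mem (wEl_mem_normalizer h) (hle p.2.2), hle p.2.2]⟩
  have hF : Function.Bijective F' := by
    constructor
    · rintro ⟨a, x⟩ ⟨a', x'⟩ e
      have e' := congrArg Subtype.val e
      cases a <;> cases a' <;> simp only [F', Bool.false_eq_true, if_false, if_true] at e'
      · exact Prod.ext rfl (Subtype.ext e')
      · exact absurd ((eq_mul_inv_of_mul_eq e'.symm) ▸ mul_mem x.2 (inv_mem x'.2)) (wEl_not_mem h)
      · exact absurd ((eq_mul_inv_of_mul_eq e') ▸ mul_mem x'.2 (inv_mem x.2)) (wEl_not_mem h)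
      · exact Prod.ext rfl (Subtype.ext (mul_left_cancel e'))
    · rintro ⟨g, hg⟩
      rcases hGrp_normalizer_cases h hg with hc | hc
      · exact ⟨(false, ⟨g, hc⟩), rfl⟩
      · refine ⟨(true, ⟨wEl h * g, hc⟩), Subtype.ext ?_⟩
        show wEl h * (wEl h * g) = g
        rw [← mul_assoc, wEl_sq, one_mul]
  rw [← Nat.card_eq_of_bijective F' hF, Nat.card_prod, card_hGrp h]
  simp

/-- cyclic members of the same order are conjugate -/
theorem cyc_conj {U V : Subgroup ↥(Cfsg.Sz F m)} (hU : IsCyclic ↥U) (hV : IsCyclic ↥V)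
    (hk : Nat.card ↥U ∈ ({2 ^ (2 * m + 1) - 1, 2 ^ (2 * m + 1) + 2 ^ (m + 1) + 1,
      2 ^ (2 * m + 1) - 2 ^ (m + 1) + 1} : Set ℕ)) (he : Nat.card ↥U = Nat.card ↥V) :
    ∃ g : ↥(Cfsg.Sz F m), U.map (MulAut.conj g).toMonoidHom = V := by
  have := finite_sz h
  obtain ⟨h5, hodd, -⟩ := k_facts h hk
  obtain ⟨p, hp, hpd⟩ := Nat.exists_prime_and_dvd (show Nat.card ↥U ≠ 1 by omega)
  have := Fact.mk hp
  have hp2 : p ≠ 2 := by
    rintro rfl
    exact Odd.not_two_dvd_nat hodd hpd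
  obtain ⟨⟨u, hu⟩, huo⟩ := exists_prime_orderOf_dvd_card' (G := ↥U) p hpd
  obtain ⟨⟨v, hv⟩, hvo⟩ := exists_prime_orderOf_dvd_card' (G := ↥V) p (he ▸ hpd)
  rw [Subgroup.orderOf_mk] at huo hvo
  obtain ⟨Pu, hPu⟩ := (IsPGroup.of_card (p := p) (n := 1)
    (G := Subgroup.zpowers u) (by rw [Nat.card_zpowers, huo, pow_one])).exists_le_sylow
  obtain ⟨Pv, hPv⟩ := (IsPGroup.of_card (p := p) (n := 1)
    (G := Subgroup.zpowers v) (by rw [Nat.card_zpowers, hvo, pow_one])).exists_le_sylow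
  obtain ⟨g, hg⟩ := MulAction.exists_smul_eq ↥(Cfsg.Sz F m) Pu Pv
  refine ⟨g, fam_unique h (fam_conj h (Or.inr ⟨hU, hk⟩) g) (Or.inr ⟨hV, he ▸ hk⟩) ((mem_conj_map h).2 hu) ?_
    (fun e => hp.ne_one (by rw [← huo, conj_eq_one_iff.1 e, orderOf_one]))⟩
  have huP : g * u * g⁻¹ ∈ (Pv : Subgroup ↥(Cfsg.Sz F m)) := by
    rw [← hg, Sylow.coe_subgroup_smul]
    exact Subgroup.smul_mem_pointwise_smul _ (MulAut.conj g) _ (hPu (Subgroup.mem_zpowers _))
  have := mem_zpowers_of_cyclic (sylow_cyclic h hp2 Pv) (hPv (Subgroup.mem_zpowers v)) huP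
    (by rw [conj_pow, hvo, ← huo, pow_orderOf_eq_one, mul_one, mul_inv_cancel])
  exact (Subgroup.zpowers_le.2 hv) this

/-- the orders of the normalisers of the cyclic members -/
theorem card_normalizer_cyc {U : Subgroup ↥(Cfsg.Sz F m)} (hU : IsCyclic ↥U) :
    (Nat.card ↥U = 2 ^ (2 * m + 1) - 1 →
      Nat.card ↥(Subgroup.normalizer (U : Set ↥(Cfsg.Sz F m))) = 2 * Nat.card ↥U) ∧
    (Nat.card ↥U ∈ ({2 ^ (2 * m + 1) + 2 ^ (m + 1) + 1, 2 ^ (2 * m + 1) - 2 ^ (m + 1) + 1} : Set ℕ) →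
      Nat.card ↥(Subgroup.normalizer (U : Set ↥(Cfsg.Sz F m))) = 4 * Nat.card ↥U) := by
  have key : ∀ V : Subgroup ↥(Cfsg.Sz F m), IsCyclic ↥V → Nat.card ↥U = Nat.card ↥V →
      Nat.card ↥U ∈ ({2 ^ (2 * m + 1) - 1, 2 ^ (2 * m + 1) + 2 ^ (m + 1) + 1,
        2 ^ (2 * m + 1) - 2 ^ (m + 1) + 1} : Set ℕ) →
      Nat.card ↥(Subgroup.normalizer (U : Set ↥(Cfsg.Sz F m))) = Nat.card ↥(Subgroup.normalizer (V : Set ↥(Cfsg.Sz F m))) := by
    intro V hV he hk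
    obtain ⟨g, rfl⟩ := cyc_conj h hU hV hk he
    rw [← Subgroup.map_equiv_normalizer_eq, Subgroup.card_map_of_injective (MulEquiv.injective _)]
  refine ⟨fun e => ?_, fun hk => ?_⟩
  · rw [key (hGrp h) (cyclic_hGrp h) (e.trans (card_hGrp h).symm) (e ▸ Set.mem_insert _ _),
      card_normalizer_hGrp h, e]
  · obtain ⟨V, hV, hVc, -, hVN⟩ := exceptional_tori h _ hk
    rw [key V hV hVc.symm (Set.mem_insert_of_mem _ hk), hVN]

/-- two-elements lie in Sylow subgroups among the members -/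
theorem sylow_of_two_element {U : Subgroup ↥(Cfsg.Sz F m)} (hU : Fam U) {x : ↥(Cfsg.Sz F m)} (hxU : x ∈ U) (hx1 : x ≠ 1) (hx : x ^ 4 = 1) :
    ∃ P : Sylow 2 ↥(Cfsg.Sz F m), U = (P : Subgroup ↥(Cfsg.Sz F m)) := by
  have := finite_sz h
  rcases hU with hU | ⟨-, hk⟩
  · exact hU
  exfalso
  obtain ⟨-, hodd, -⟩ := k_facts h hk
  have hco : Nat.Coprime (Nat.card ↥U) 4 := by
    exact (Nat.coprime_two_right.2 hodd).pow_right 2
  exact hx1 (orderOf_eq_one_iff.1 (Nat.eq_one_of_dvd_coprimes hco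
    (Subgroup.orderOf_dvd_natCard U hxU) (orderOf_dvd_of_pow_eq_one hx)))

/-- elements of the normaliser of a cyclic member outside it -/
theorem outside {U : Subgroup ↥(Cfsg.Sz F m)} (hU : IsCyclic ↥U)
    (hk : Nat.card ↥U ∈ ({2 ^ (2 * m + 1) - 1, 2 ^ (2 * m + 1) + 2 ^ (m + 1) + 1,
      2 ^ (2 * m + 1) - 2 ^ (m + 1) + 1} : Set ℕ)) {e : ℕ}
    (he : Nat.card ↥(Subgroup.normalizer (U : Set ↥(Cfsg.Sz F m))) = e * Nat.card ↥U) {g : ↥(Cfsg.Sz F m)}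
    (hg : g ∈ Subgroup.normalizer (U : Set ↥(Cfsg.Sz F m))) (hgU : g ∉ U) : g ^ e = 1 := by
  have := finite_sz h
  set N := Subgroup.normalizer (U : Set ↥(Cfsg.Sz F m)) with hN
  have hle : U ≤ N := Subgroup.le_normalizer
  set U' := U.subgroupOf N with hU'
  have hnorm : U'.Normal := ⟨fun x hx y => Subgroup.mem_subgroupOf.2
    ((Subgroup.mem_normalizer_iff.1 y.2 x.1).1 (Subgroup.mem_subgroupOf.1 hx))⟩
  have hidx : U'.index = e := by
    have h1 := U'.card_mul_index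
    rw [hU', Nat.card_congr (Subgroup.subgroupOfEquivOfLe hle).toEquiv, he, mul_comm e] at h1
    exact Nat.eq_of_mul_eq_mul_left (by have := (k_facts h hk).1; omega) h1
  have hmem : g ^ e ∈ U := hidx ▸ (Subgroup.mem_subgroupOf.1 (Subgroup.pow_index_mem U' ⟨g, hg⟩))
  by_contra hne
  exact hgU (cent_le h (Or.inr ⟨hU, hk⟩) hmem hne
    (Subgroup.mem_centralizer_singleton_iff.2 ((Commute.refl g).pow_right e).eq))

/-- involutions normalising a cyclic member invert it -/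
theorem inverts {U : Subgroup ↥(Cfsg.Sz F m)} (hU : IsCyclic ↥U)
    (hk : Nat.card ↥U ∈ ({2 ^ (2 * m + 1) - 1, 2 ^ (2 * m + 1) + 2 ^ (m + 1) + 1,
      2 ^ (2 * m + 1) - 2 ^ (m + 1) + 1} : Set ℕ)) {t : ↥(Cfsg.Sz F m)}
    (ht : t ∈ Subgroup.normalizer (U : Set ↥(Cfsg.Sz F m))) (ho : orderOf t = 2) {u : ↥(Cfsg.Sz F m)} (hu : u ∈ U) :
    t * u * t⁻¹ = u⁻¹ := by
  have := finite_sz h
  have htU : t ∉ U := fun e =>
    Odd.not_two_dvd_nat (k_facts h hk).2.1 (ho ▸ Subgroup.orderOf_dvd_natCard U e)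
  have hv : t * u * t⁻¹ ∈ U := (Subgroup.mem_normalizer_iff.1 ht u).1 hu
  have ht2 : t * t = 1 := by rw [← pow_two, ← ho, pow_orderOf_eq_one]
  have hcomm : u * (t * u * t⁻¹) = t * u * t⁻¹ * u := by
    let := hU.commGroup
    exact congrArg Subtype.val (mul_comm (⟨u, hu⟩ : ↥U) ⟨_, hv⟩)
  by_contra hne
  refine htU (cent_le h (Or.inr ⟨hU, hk⟩) (mul_mem hu hv) (fun e => hne (eq_inv_of_mul_eq_one_right e))
    (Subgroup.mem_centralizer_singleton_iff.2 ?_))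
  calc t * (u * (t * u * t⁻¹)) = (t * u * t⁻¹) * ((t * t) * u * t⁻¹) := by group
    _ = (t * u * t⁻¹) * u * t⁻¹ := by rw [ht2, one_mul]; group
    _ = u * (t * u * t⁻¹) * t⁻¹ := by rw [hcomm]
    _ = u * (t * u * t⁻¹) * t := by rw [inv_eq_of_mul_eq_one_right ht2]

end Cfsg.Agent.KnownA.SzMembers
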