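import Cfsg.Agent.KnownA.Suz.Members

/-!
The solubilizer of an element of a Suzuki group as a union of normalisers of members, and the number
of cyclic members normalised by a given 2-element.
-/

set_option autoImplicit false

namespace Cfsg.Agent.KnownA.SzMembers

open Cfsg.Agent.Suzuki Cfsg.Agent.KnownA.SzSubgroups Cfsg.Agent.KnownA.ReeLocal
open scoped Pointwise

variable {F : Type*} [Field F] {m : ℕ} (h : Ctx F m)

/-- The solubilizer. -/
def Sol (x y : ↥(Cfsg.Sz F m)) : Prop :=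
  Group.IsSolvable ↥(Subgroup.closure ({x, y} : Set ↥(Cfsg.Sz F m)))

/-- The cyclic members of order `k` normalised by `x`. -/
def Fix (k : ℕ) (x : ↥(Cfsg.Sz F m)) (U : Subgroup ↥(Cfsg.Sz F m)) : Prop :=
  (IsCyclic ↥U ∧ Nat.card ↥U = k) ∧ x ∈ Subgroup.normalizer (U : Set ↥(Cfsg.Sz F m))

include h

theorem solvable_two_point (p : Cfsg.suzukiOvoid F m) :
    Group.IsSolvable ↥(MulAction.stabilizer ↥(Cfsg.Sz F m) p) := by
  obtain ⟨t, rfl⟩ := exists_smul_inf h p
  have := solvable_stab h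
  rw [MulAction.stabilizer_smul_eq_stabilizer_map_conj]
  exact Group.isSolvable_of_surjective
    ((MulAction.stabilizer ↥(Cfsg.Sz F m) (inf' F m)).equivMapOfInjective _
      (MulAut.conj t).injective).surjective (f := MulEquiv.toMonoidHom _)

theorem card_stab_point (p : Cfsg.suzukiOvoid F m) :
    Nat.card ↥(MulAction.stabilizer ↥(Cfsg.Sz F m) p) = (2 ^ (2 * m + 1)) ^ 2 * (2 ^ (2 * m + 1) - 1) := by
  obtain ⟨t, rfl⟩ := exists_smul_inf h p
  rw [MulAction.stabilizer_smul_eq_stabilizer_map_conj, Subgroup.card_map_of_injective (MulAut.conj t).injective,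
    card_stab h]

theorem solvable_normalizer {U : Subgroup ↥(Cfsg.Sz F m)} (hU : Fam U) :
    Group.IsSolvable ↥(Subgroup.normalizer (U : Set ↥(Cfsg.Sz F m))) := by
  have := finite_sz h
  rcases hU with ⟨P, rfl⟩ | ⟨hc, hk⟩
  · obtain ⟨t, ht⟩ := sylow_point h P
    rw [normalizer_sylow h ht]
    exact solvable_two_point h _
  set N := Subgroup.normalizer (U : Set ↥(Cfsg.Sz F m)) with hN
  have hle : U ≤ N := Subgroup.le_normalizer
  set U' := U.subgroupOf N with hU'
  have : U'.Normal := ⟨fun x hx y => Subgroup.mem_subgroupOf.2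
    ((Subgroup.mem_normalizer_iff.1 y.2 x.1).1 (Subgroup.mem_subgroupOf.1 hx))⟩
  have hU'c : Group.IsSolvable ↥U' := by
    let := hc.commGroup
    exact Group.isSolvable_of_surjective (G := ↥U)
      (f := (Subgroup.subgroupOfEquivOfLe hle).symm.toMonoidHom) (Subgroup.subgroupOfEquivOfLe hle).symm.surjective
  obtain ⟨j, hj⟩ : ∃ j, Nat.card ↥N = 2 ^ j * Nat.card ↥U := by
    rcases hk with e | hk'
    · exact ⟨1, by rw [hN, (card_normalizer_cyc h hc).1 e, pow_one]⟩
    · exact ⟨2, by rw [hN, (card_normalizer_cyc h hc).2 hk']; norm_num⟩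
  have hQ : Nat.card (↥N ⧸ U') = 2 ^ j := by
    have h1 := U'.card_mul_index
    rw [hU', Nat.card_congr (Subgroup.subgroupOfEquivOfLe hle).toEquiv, hj, mul_comm (2 ^ j)] at h1
    exact Nat.eq_of_mul_eq_mul_left (by have := (k_facts h hk).1; omega) h1
  have : Fact (Nat.Prime 2) := ⟨Nat.prime_two⟩
  have : Group.IsNilpotent (↥N ⧸ U') := (IsPGroup.of_card hQ).isNilpotent
  exact (Group.isSolvable_iff_subgroup_quotient U').2 ⟨hU'c, inferInstance⟩

theorem sol_iff {x : ↥(Cfsg.Sz F m)} (hx : x ≠ 1) (y : ↥(Cfsg.Sz F m)) :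
    Sol x y ↔ ∃ U : Subgroup ↥(Cfsg.Sz F m), Fam U ∧ x ∈ Subgroup.normalizer (U : Set ↥(Cfsg.Sz F m)) ∧
      y ∈ Subgroup.normalizer (U : Set ↥(Cfsg.Sz F m)) := by
  constructor
  · intro hs
    obtain ⟨U, hU, hle⟩ := solvable_le h hs (fun e => hx (Subgroup.mem_bot.1
      (e.le (Subgroup.subset_closure (Set.mem_insert x _)))))
    exact ⟨U, hU, hle (Subgroup.subset_closure (Set.mem_insert x _)),
      hle (Subgroup.subset_closure (Set.mem_insert_of_mem _ rfl))⟩
  · rintro ⟨U, hU, hxU, hyU⟩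
    have hle : Subgroup.closure ({x, y} : Set ↥(Cfsg.Sz F m)) ≤ Subgroup.normalizer (U : Set ↥(Cfsg.Sz F m)) :=
      (Subgroup.closure_le _).2 (by
        rintro z (rfl | rfl)
        exacts [hxU, hyU])
    have := solvable_normalizer h hU
    exact Group.isSolvable_of_isSolvable_injective (Subgroup.inclusion_injective hle)

theorem sol_conj (g x y : ↥(Cfsg.Sz F m)) : Sol (g * x * g⁻¹) (g * y * g⁻¹) ↔ Sol x y := by
  have e : (Subgroup.closure ({x, y} : Set ↥(Cfsg.Sz F m))).map (MulAut.conj g).toMonoidHom =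
      Subgroup.closure ({g * x * g⁻¹, g * y * g⁻¹} : Set ↥(Cfsg.Sz F m)) := by
    rw [MonoidHom.map_closure, Set.image_pair]
    rfl
  unfold Sol
  rw [← e]
  let f := (Subgroup.closure ({x, y} : Set ↥(Cfsg.Sz F m))).equivMapOfInjective (MulAut.conj g).toMonoidHom (MulAut.conj g).injective
  exact ⟨fun _ => Group.isSolvable_of_isSolvable_injective (f := f.toMonoidHom) f.injective,
    fun _ => Group.isSolvable_of_surjective (f := f.toMonoidHom) f.surjective⟩

theorem card_sol_conj (g x : ↥(Cfsg.Sz F m)) :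
    Nat.card {y // Sol (g * x * g⁻¹) y} = Nat.card {y // Sol x y} :=
  (Nat.card_congr ((MulAut.conj g).toEquiv.subtypeEquiv fun y => (sol_conj h g x y).symm)).symm

/-- the members containing a Sylow 2-subgroup's two-elements -/
theorem sylow_mem_normalizer (P : Sylow 2 ↥(Cfsg.Sz F m)) {z : ↥(Cfsg.Sz F m)}
    (hz : z ∈ Subgroup.normalizer ((P : Subgroup ↥(Cfsg.Sz F m)) : Set ↥(Cfsg.Sz F m))) (hz4 : z ^ 4 = 1) :
    z ∈ (P : Subgroup ↥(Cfsg.Sz F m)) := by
  have := finite_sz h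
  obtain ⟨t, ht⟩ := sylow_point h P
  have hzp : z • (t • inf' F m) = t • inf' F m := by
    have := hz
    rwa [normalizer_sylow h ht, MulAction.mem_stabilizer_iff] at this
  obtain ⟨a, b, k, hk⟩ := fix_inf h (g := t⁻¹ * z * t) (by rw [mul_smul, mul_smul, hzp, inv_smul_smul])
  by_cases hk1 : k = 1
  · rw [hk1, hEl_one, mul_one] at hk
    exact (ht z).2 ⟨a, b, hk⟩
  exfalso
  obtain ⟨x', y', e⟩ := exists_second_fix h a b hk1
  by_cases hz1 : z = 1
  · subst hz1
    have : uEl h a b * hEl h k = uEl h 0 0 * hEl h 1 := by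
      rw [← hk, uEl_zero, hEl_one]; group
    exact hk1 (uhEl_inj h this).2.2
  obtain ⟨U, ⟨hU, hzU⟩, -⟩ := partition h hz1
  obtain ⟨Q, rfl⟩ := sylow_of_two_element h hU hzU hz1 hz4
  obtain ⟨s, hs⟩ := sylow_point h Q
  obtain ⟨c, d, hcd⟩ := (hs z).1 hzU
  have hz' : z = s * uEl h c d * s⁻¹ := by rw [← hcd]; group
  have hfixed : ∀ p, z • p = p → p = s • inf' F m := by
    intro p hp
    rw [hz', mul_smul, mul_smul, ← eq_inv_smul_iff] at hp
    have : s⁻¹ • p = inf' F m := by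
      rcases pt_cases (s⁻¹ • p) with e' | ⟨u, v, e'⟩
      · exact e'
      · exfalso
        rw [e', uEl_smul_pt] at hp
        obtain ⟨e1, e2⟩ := pt_inj hp
        have hc : c = 0 := by linear_combination e1
        subst hc
        rw [th_zero, zero_mul, add_zero] at e2
        have hd : d = 0 := by linear_combination e2
        subst hd
        rw [uEl_zero, mul_one, mul_inv_cancel] at hz'
        exact hz1 hz'
    rw [← this, smul_inv_smul]
  have h1 := hfixed _ hzp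
  have h2 : z • (t • pt m x' y') = t • pt m x' y' := by
    have : (t⁻¹ * z * t) • pt m x' y' = pt m x' y' := by rw [hk]; exact e
    rw [mul_smul, mul_smul, inv_smul_eq_iff] at this
    exact this
  exact pt_ne_inf x' y' (smul_left_cancel t ((hfixed _ h2).trans h1.symm))

/-- any two elements of the same two-power order are conjugate up to inversion -/
theorem two_element_conj {x z : ↥(Cfsg.Sz F m)} (hx1 : x ≠ 1) (hx : x ^ 4 = 1) (ho : orderOf x = orderOf z) :
    ∃ g : ↥(Cfsg.Sz F m), g * x * g⁻¹ = z ∨ g * x * g⁻¹ = z⁻¹ := by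
  have := finite_sz h
  have := h.finite
  have hform : ∀ w : ↥(Cfsg.Sz F m), w ≠ 1 → w ^ 4 = 1 → ∃ g : ↥(Cfsg.Sz F m),
      (orderOf w = 2 ∧ g * w * g⁻¹ = uEl h 0 1) ∨ (orderOf w ≠ 2 ∧ ∃ b, g * w * g⁻¹ = uEl h 1 b) := by
    intro w hw1 hw
    obtain ⟨U, ⟨hU, hwU⟩, -⟩ := partition h hw1
    obtain ⟨P, rfl⟩ := sylow_of_two_element h hU hwU hw1 hw
    obtain ⟨t, ht⟩ := sylow_point h P
    obtain ⟨a, b, hab⟩ := (ht w).1 hwU
    have hconj : ∀ g, g * t⁻¹ * w * (g * t⁻¹)⁻¹ = g * uEl h a b * g⁻¹ := fun g => by rw [← hab]; group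
    have hord : orderOf (uEl h a b) = orderOf w := by
      rw [← hab, show t⁻¹ * w * t = MulAut.conj t⁻¹ w by simp, MulEquiv.orderOf_eq]
    by_cases ha : a = 0
    · subst ha
      have hb : b ≠ 0 := fun e => hw1 (by
        rw [e, uEl_zero, orderOf_one] at hord
        exact orderOf_eq_one_iff.1 hord.symm)
      obtain ⟨k, hk⟩ := exists_root h (inv_ne_zero hb)
      refine ⟨hEl h k * t⁻¹, Or.inl ⟨?_, ?_⟩⟩
      · refine orderOf_eq_prime ?_ hw1
        rw [show w = t * uEl h 0 b * t⁻¹ by rw [← hab]; group, conj_pow, pow_two, uEl_sq, mul_zero,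
          uEl_zero, mul_one, mul_inv_cancel]
      · rw [hconj, hEl_conj, mul_zero, hk, inv_mul_cancel₀ hb]
    · refine ⟨hEl h (Units.mk0 a⁻¹ (inv_ne_zero ha)) * t⁻¹, Or.inr ⟨fun e => ha ?_, a⁻¹ * th m a⁻¹ * b, ?_⟩⟩
      · have h2 := pow_orderOf_eq_one (uEl h a b)
        rw [hord, e, pow_two, uEl_sq, ← uEl_zero h] at h2
        rcases mul_eq_zero.1 (uEl_inj h h2).2 with e' | e'
        · exact h.th_eq_zero.1 e'
        · exact e'
      · rw [hconj, hEl_conj, Units.val_mk0, inv_mul_cancel₀ ha]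
  have hz1 : z ≠ 1 := fun e => hx1 (by rw [e, orderOf_one] at ho; exact orderOf_eq_one_iff.1 ho)
  have hz : z ^ 4 = 1 := orderOf_dvd_iff_pow_eq_one.1 (ho ▸ orderOf_dvd_of_pow_eq_one hx)
  obtain ⟨g, hg⟩ := hform x hx1 hx
  obtain ⟨g', hg'⟩ := hform z hz1 hz
  rcases hg with ⟨hx2, hg⟩ | ⟨hx2, b, hg⟩ <;> rcases hg' with ⟨hz2, hg'⟩ | ⟨hz2, b', hg'⟩
  · refine ⟨g'⁻¹ * g, Or.inl ?_⟩
    rw [show g'⁻¹ * g * x * (g'⁻¹ * g)⁻¹ = g'⁻¹ * (g * x * g⁻¹) * g' by group, hg, ← hg']
    group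
  · exact absurd (ho ▸ hx2) hz2
  · exact absurd (ho.trans hz2) hx2
  -- the image of `c ↦ θ c + c` has index two
  let φ : F →+ F := AddMonoidHom.mk' (fun c => th m c + c) (fun a b => by rw [h.th_add]; ring)
  have hker : Nat.card φ.ker = 2 := by
    rw [Nat.card_eq_two_iff]
    refine ⟨0, ⟨1, by show th m (1 : F) + 1 = 0; rw [th_one, h.add_self]⟩, fun e =>
      zero_ne_one (congrArg Subtype.val e), ?_⟩
    ext ⟨s, hs⟩
    simp only [Set.mem_insert_iff, Set.mem_singleton_iff, Set.mem_univ, iff_true]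
    have e7 : th m s = s := by
      have : th m s + s = 0 := hs
      linear_combination this - s * h.two_eq_zero
    have e8 := congrArg (th m) e7
    rw [h.th_th, e7] at e8
    have : s * (s - 1) = 0 := by linear_combination e8
    rcases mul_eq_zero.1 this with e | e
    · exact Or.inl (Subtype.ext e)
    · exact Or.inr (Subtype.ext (sub_eq_zero.1 e))
  have hidx : φ.range.index = 2 := by
    have h1 := φ.ker.card_mul_index
    have h2 := φ.range.card_mul_index
    rw [AddSubgroup.index_ker, hker] at h1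
    rw [← h1, mul_comm 2] at h2
    exact Nat.eq_of_mul_eq_mul_left Nat.card_pos h2
  have hone : (1 : F) ∉ φ.range := by
    rintro ⟨s, hs⟩
    have e7 : th m s = s + 1 := by
      have : th m s + s = 1 := hs
      linear_combination this - s * h.two_eq_zero
    have e8 := congrArg (th m) e7
    rw [h.th_th, h.th_add, th_one, e7] at e8
    have e9 : th m s = s := by
      have : s * (s - 1) = 0 := by linear_combination e8 + h.two_eq_zero
      rcases mul_eq_zero.1 this with e | e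
      · rw [e, th_zero]
      · rw [sub_eq_zero.1 e, th_one]
    rw [e9] at e7
    exact one_ne_zero (α := F) (by linear_combination -e7)
  have hcases : (∃ c, φ c = b + b') ∨ ∃ c, φ c = b + b' + 1 := by
    by_cases hb : b + b' ∈ φ.range
    · exact Or.inl hb
    · right
      have := (AddSubgroup.add_mem_iff_of_index_two hidx (a := b + b') (b := 1)).2
        ⟨fun e => absurd e hb, fun e => absurd e hone⟩
      exact this
  have hmove : ∀ c, uEl h c 0 * uEl h 1 b * (uEl h c 0)⁻¹ = uEl h 1 (b + φ c) := by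
    intro c
    rw [mul_inv_eq_iff_eq_mul, uEl_mul, uEl_mul]
    congr 1
    · ring
    · show 0 + b + th m c * 1 = b + (th m c + c) + 0 + th m (1 : F) * c
      rw [th_one]
      linear_combination -c * h.two_eq_zero
  rcases hcases with ⟨c, hc⟩ | ⟨c, hc⟩
  · refine ⟨g'⁻¹ * (uEl h c 0 * g), Or.inl ?_⟩
    rw [show g'⁻¹ * (uEl h c 0 * g) * x * (g'⁻¹ * (uEl h c 0 * g))⁻¹ =
      g'⁻¹ * (uEl h c 0 * (g * x * g⁻¹) * (uEl h c 0)⁻¹) * g' by group, hg, hmove, hc,
      show b + (b + b') = b' by linear_combination b * h.two_eq_zero, ← hg']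
    group
  · refine ⟨g'⁻¹ * (uEl h c 0 * g), Or.inr ?_⟩
    rw [show g'⁻¹ * (uEl h c 0 * g) * x * (g'⁻¹ * (uEl h c 0 * g))⁻¹ =
      g'⁻¹ * (uEl h c 0 * (g * x * g⁻¹) * (uEl h c 0)⁻¹) * g' by group, hg, hmove, hc,
      show uEl h 1 (b + (b + b' + 1)) = (g' * z * g'⁻¹)⁻¹ by
        rw [hg', uEl_inv, th_one, show b + (b + b' + 1) = b' + 1 * 1 by linear_combination b * h.two_eq_zero]]
    group

/-- elements of a given two-power order in the group -/
theorem card_two_elements {i : ℕ} (hi1 : 1 < i) (hi : i ∣ 4) :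
    Nat.card {z : ↥(Cfsg.Sz F m) // orderOf z = i} * ((2 ^ (2 * m + 1)) ^ 2 * (2 ^ (2 * m + 1) - 1)) =
      Nat.card ↥(Cfsg.Sz F m) * (if i = 2 then 2 ^ (2 * m + 1) - 1 else 2 ^ (2 * m + 1) * (2 ^ (2 * m + 1) - 1)) := by
  classical
  have := finite_sz h
  have := h.finite
  let := Fintype.ofFinite F
  have hfam : Fam (uGrp h) := Or.inl ⟨uSylow h, (uSylow_coe h).symm⟩
  have hne : ∀ z : ↥(Cfsg.Sz F m), orderOf z = i → z ≠ 1 := fun z hz e => by
    rw [e, orderOf_one] at hz; omega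
  have e := card_invariant (uGrp h) (fun z => orderOf z = i)
    (fun g z hz => by rw [← MulAut.conj_apply, MulEquiv.orderOf_eq, hz])
    (fun z hz => by
      obtain ⟨U, ⟨hU, hzU⟩, -⟩ := partition h (hne z hz)
      obtain ⟨P, rfl⟩ := sylow_of_two_element h hU hzU (hne z hz) (orderOf_dvd_iff_pow_eq_one.1 (hz ▸ hi))
      obtain ⟨t, ht⟩ := sylow_point h P
      exact ⟨t⁻¹, by simpa using (ht z).1 hzU⟩)
    (fun y hy hyi g hg => mem_normalizer_of h hfam hy (hne y hyi) hg)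
  rw [normalizer_uGrp, card_stab h] at e
  rw [e]
  congr 1
  rw [← Nat.card_congr ((uEquiv h).subtypeEquiv (p := fun p : F × F => orderOf (uEl h p.1 p.2) = i)
    (q := fun y : ↥(uGrp h) => orderOf (y : ↥(Cfsg.Sz F m)) = i) fun p => Iff.rfl)]
  have h2 : ∀ a b : F, orderOf (uEl h a b) = 2 ↔ a = 0 ∧ b ≠ 0 := by
    intro a b
    rw [orderOf_eq_prime_iff, pow_two, uEl_sq, ne_eq, ← uEl_zero h]
    constructor
    · rintro ⟨e1, e2⟩
      have ha : a = 0 := by
        rcases mul_eq_zero.1 (uEl_inj h e1).2 with e' | e'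
        · exact h.th_eq_zero.1 e'
        · exact e'
      exact ⟨ha, fun hb => e2 (by rw [ha, hb])⟩
    · rintro ⟨rfl, hb⟩
      exact ⟨by rw [mul_zero], fun e => hb (uEl_inj h e).2⟩
  have hi' : i = 2 ∨ i = 4 := by
    have := Nat.le_of_dvd (by norm_num) hi
    interval_cases i <;> omega
  rcases hi' with rfl | rfl
  · rw [if_pos rfl, Nat.card_congr (Equiv.subtypeEquivRight fun p : F × F => h2 p.1 p.2)]
    have e2 : Nat.card {x : F // x ≠ 0} = 2 ^ (2 * m + 1) - 1 := by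
      rw [Nat.card_eq_fintype_card, Fintype.card_subtype_compl, Fintype.card_subtype_eq,
        ← Nat.card_eq_fintype_card, h.card]
    rw [← e2]
    exact Nat.card_congr ⟨fun p => ⟨p.1.2, p.2.2⟩, fun x => ⟨(0, x.1), rfl, x.2⟩,
      fun p => Subtype.ext (Prod.ext p.2.1.symm rfl), fun _ => rfl⟩
  · rw [if_neg (by norm_num)]
    have h4 : ∀ a b : F, orderOf (uEl h a b) = 4 ↔ a ≠ 0 := by
      intro a b
      constructor
      · intro e ha
        by_cases hb : b = 0
        · rw [ha, hb, uEl_zero, orderOf_one] at e; norm_num at e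
        · rw [(h2 a b).2 ⟨ha, hb⟩] at e; norm_num at e
      · intro ha
        have : Fact (Nat.Prime 2) := ⟨Nat.prime_two⟩
        refine (orderOf_eq_prime_pow (p := 2) (n := 1) ?_ ?_).trans (by norm_num)
        · intro e
          rw [pow_one, pow_two, uEl_sq, ← uEl_zero h] at e
          rcases mul_eq_zero.1 (uEl_inj h e).2 with e' | e'
          · exact ha (h.th_eq_zero.1 e')
          · exact ha e'
        · show uEl h a b ^ 4 = 1
          exact uEl_pow_four h a b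
    rw [Nat.card_congr (Equiv.subtypeEquivRight fun p : F × F => h4 p.1 p.2)]
    have e2 : Nat.card ({x : F // x ≠ 0} × F) = 2 ^ (2 * m + 1) * (2 ^ (2 * m + 1) - 1) := by
      rw [Nat.card_prod, Nat.card_eq_fintype_card, Fintype.card_subtype_compl, Fintype.card_subtype_eq,
        ← Nat.card_eq_fintype_card, h.card, mul_comm]
    rw [← e2]
    exact Nat.card_congr ⟨fun p => (⟨p.1.1, p.2⟩, p.1.2), fun x => ⟨(x.1.1, x.2), x.1.2⟩, fun _ => rfl, fun _ => rfl⟩

/-- the number of elements of each two-power order normalising a cyclic member from outside -/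
theorem card_normalizer_two {U : Subgroup ↥(Cfsg.Sz F m)} (hU : IsCyclic ↥U)
    (hk : Nat.card ↥U ∈ ({2 ^ (2 * m + 1) - 1, 2 ^ (2 * m + 1) + 2 ^ (m + 1) + 1,
      2 ^ (2 * m + 1) - 2 ^ (m + 1) + 1} : Set ℕ)) {e : ℕ} (he2 : e = 2 ∨ e = 4)
    (he : Nat.card ↥(Subgroup.normalizer (U : Set ↥(Cfsg.Sz F m))) = e * Nat.card ↥U) {i : ℕ}
    (hi : i = 2 ∨ i = 4) :
    Nat.card {z : ↥(Subgroup.normalizer (U : Set ↥(Cfsg.Sz F m))) // orderOf (z : ↥(Cfsg.Sz F m)) = i} =
      (if i = 2 then 1 else e - 2) * Nat.card ↥U := by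
  classical
  have := finite_sz h
  have : Fact (Nat.Prime 2) := ⟨Nat.prime_two⟩
  set N := Subgroup.normalizer (U : Set ↥(Cfsg.Sz F m)) with hN
  have hodd := (k_facts h hk).2.1
  have hout : ∀ z : ↥(Cfsg.Sz F m), 2 ∣ orderOf z → z ∉ U := fun z hz hzU =>
    Odd.not_two_dvd_nat hodd (hz.trans (Subgroup.orderOf_dvd_natCard U hzU))
  -- an involution
  obtain ⟨⟨t, htN⟩, ht⟩ := exists_prime_orderOf_dvd_card' (G := ↥N) 2
    (he ▸ Dvd.dvd.mul_right (by rcases he2 with rfl | rfl <;> norm_num) _)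
  rw [Subgroup.orderOf_mk] at ht
  have htinv : t⁻¹ = t := inv_eq_of_mul_eq_one_right (by rw [← pow_two, ← ht, pow_orderOf_eq_one])
  -- involutions form the coset `U t`
  have hinvo : Nat.card {z : ↥N // orderOf (z : ↥(Cfsg.Sz F m)) = 2} = Nat.card ↥U := by
    let f : ↥U → {z : ↥N // orderOf (z : ↥(Cfsg.Sz F m)) = 2} := fun u =>
      ⟨⟨u.1 * t, mul_mem (Subgroup.le_normalizer u.2) htN⟩, orderOf_eq_prime (by
        show (u.1 * t) ^ 2 = 1
        have e := inverts h hU hk htN ht u.2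
        rw [htinv] at e
        rw [pow_two, show u.1 * t * (u.1 * t) = u.1 * (t * u.1 * t) by group, e, mul_inv_cancel])
        (fun e => hout t (ht ▸ dvd_rfl) (by have e' : u.1 * t = 1 := e; rw [eq_inv_of_mul_eq_one_right e']; exact inv_mem u.2))⟩
    refine (Nat.card_eq_of_bijective f ⟨fun a b e => ?_, ?_⟩).symm
    · exact Subtype.ext (mul_right_cancel (congrArg (fun z => z.1.1) e : a.1 * t = b.1 * t))
    · rintro ⟨⟨z, hzN⟩, hz⟩
      have hzt : z * t ∈ U := by
        obtain ⟨u, hu, hu1⟩ : ∃ u ∈ U, u ≠ 1 := by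
          refine (Subgroup.bot_or_exists_ne_one U).resolve_left fun e => ?_
          have := (k_facts h hk).1
          rw [e, Subgroup.card_bot] at this
          omega
        refine cent_le h (Or.inr ⟨hU, hk⟩) hu hu1 (Subgroup.mem_centralizer_singleton_iff.2 ?_)
        have e1 := inverts h hU hk hzN hz (inv_mem hu)
        have e2 := inverts h hU hk htN ht hu
        rw [inv_inv] at e1
        calc z * t * u = z * (t * u * t⁻¹) * t := by group
          _ = z * u⁻¹ * t := by rw [e2]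
          _ = (z * u⁻¹ * z⁻¹) * (z * t) := by group
          _ = u * (z * t) := by rw [e1]
      refine ⟨⟨z * t, hzt⟩, Subtype.ext (Subtype.ext ?_)⟩
      show z * t * t = z
      nth_rewrite 2 [← htinv]
      rw [mul_inv_cancel_right]
  rcases hi with rfl | rfl
  · rw [if_pos rfl, one_mul, hinvo]
  rw [if_neg (by norm_num)]
  -- outside elements have order two or four
  have hsplit : Nat.card {z : ↥N // (z : ↥(Cfsg.Sz F m)) ∉ U} =
      Nat.card {z : ↥N // orderOf (z : ↥(Cfsg.Sz F m)) = 2} + Nat.card {z : ↥N // orderOf (z : ↥(Cfsg.Sz F m)) = 4} := by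
    rw [← Nat.card_sum, ← Nat.card_congr (subtypeOrEquiv _ _ (Pi.disjoint_iff.2 fun z =>
      disjoint_iff_inf_le.2 fun ⟨a, b⟩ => by rw [a] at b; norm_num at b))]
    refine Nat.card_congr (Equiv.subtypeEquivRight fun z => ⟨fun hz => ?_, ?_⟩)
    · have h4 : (z : ↥(Cfsg.Sz F m)) ^ 4 = 1 := by
        have := outside h hU hk he z.2 hz
        rcases he2 with rfl | rfl
        · have e4 : (z : ↥(Cfsg.Sz F m)) ^ (2 * 2) = 1 := by rw [pow_mul, this, one_pow]
          exact e4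
        · exact this
      have hd := orderOf_dvd_of_pow_eq_one h4
      have h1 : orderOf (z : ↥(Cfsg.Sz F m)) ≠ 1 := fun e => hz (by rw [orderOf_eq_one_iff.1 e]; exact one_mem _)
      have := Nat.le_of_dvd (by norm_num) hd
      generalize orderOf (z : ↥(Cfsg.Sz F m)) = o at *
      interval_cases o <;> omega
    · rintro (e | e)
      · exact hout _ (e ▸ dvd_rfl)
      · exact hout _ (by rw [e]; norm_num)
  have hU' : Nat.card {z : ↥N // (z : ↥(Cfsg.Sz F m)) ∈ U} = Nat.card ↥U :=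
    Nat.card_congr ⟨fun z => ⟨z.1.1, z.2⟩, fun u => ⟨⟨u.1, Subgroup.le_normalizer u.2⟩, u.2⟩,
      fun _ => rfl, fun _ => rfl⟩
  have htot : Nat.card ↥N = Nat.card {z : ↥N // (z : ↥(Cfsg.Sz F m)) ∈ U} +
      Nat.card {z : ↥N // (z : ↥(Cfsg.Sz F m)) ∉ U} := by
    rw [← Nat.card_sum]
    exact (Nat.card_congr (Equiv.sumCompl _)).symm
  rw [hU', hsplit, hinvo, he] at htot
  rcases he2 with rfl | rfl <;> omega

theorem fix_congr (k : ℕ) (g x : ↥(Cfsg.Sz F m)) :
    Nat.card {U // Fix k (g * x * g⁻¹) U} = Nat.card {U // Fix k x U} := by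
  refine (Nat.card_congr ((MulAut.conj g).mapSubgroup.toEquiv.subtypeEquiv fun U => ?_)).symm
  show Fix k x U ↔ Fix k (g * x * g⁻¹) (U.map (MulAut.conj g).toMonoidHom)
  unfold Fix
  rw [← Subgroup.map_equiv_normalizer_eq, Subgroup.card_map_of_injective (MulAut.conj g).injective]
  refine and_congr (and_congr_left fun _ => ?_) (mem_conj_map h).symm
  exact (U.equivMapOfInjective _ (MulAut.conj g).injective).isCyclic

/-- how many cyclic members of one order a two-element normalises -/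
theorem fix_count {k e : ℕ}
    (hk : k = 2 ^ (2 * m + 1) - 1 ∧ e = 2 ∨
      k ∈ ({2 ^ (2 * m + 1) + 2 ^ (m + 1) + 1, 2 ^ (2 * m + 1) - 2 ^ (m + 1) + 1} : Set ℕ) ∧ e = 4)
    {x : ↥(Cfsg.Sz F m)} {i : ℕ} (hi : i = 2 ∨ i = 4) (hx : orderOf x = i) :
    Nat.card {U // Fix k x U} * (if i = 2 then 1 else 2 ^ (2 * m + 1)) * e =
      (if i = 2 then 1 else e - 2) * (2 ^ (2 * m + 1)) ^ 2 := by
  classical
  have := finite_sz h
  have hkmem : k ∈ ({2 ^ (2 * m + 1) - 1, 2 ^ (2 * m + 1) + 2 ^ (m + 1) + 1,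
      2 ^ (2 * m + 1) - 2 ^ (m + 1) + 1} : Set ℕ) := by
    rcases hk with ⟨rfl, -⟩ | ⟨hk, -⟩
    exacts [Set.mem_insert _ _, Set.mem_insert_of_mem _ hk]
  obtain ⟨hk5, -, -⟩ := k_facts h hkmem
  have he2 : e = 2 ∨ e = 4 := by rcases hk with ⟨-, e'⟩ | ⟨-, e'⟩ <;> simp [e']
  have hNcard : ∀ U : Subgroup ↥(Cfsg.Sz F m), IsCyclic ↥U → Nat.card ↥U = k →
      Nat.card ↥(Subgroup.normalizer (U : Set ↥(Cfsg.Sz F m))) = e * Nat.card ↥U := by
    intro U hU hUk
    rcases hk with ⟨rfl, rfl⟩ | ⟨hk', rfl⟩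
    · exact (card_normalizer_cyc h hU).1 hUk
    · exact (card_normalizer_cyc h hU).2 (hUk ▸ hk')
  obtain ⟨U₀, hU₀, hU₀k⟩ : ∃ U₀ : Subgroup ↥(Cfsg.Sz F m), IsCyclic ↥U₀ ∧ Nat.card ↥U₀ = k := by
    rcases hk with ⟨rfl, -⟩ | ⟨hk', -⟩
    · exact ⟨hGrp h, cyclic_hGrp h, card_hGrp h⟩
    · obtain ⟨V, hV, hVc, -⟩ := exceptional_tori h k hk'
      exact ⟨V, hV, hVc⟩
  let Mk := {U : Subgroup ↥(Cfsg.Sz F m) // IsCyclic ↥U ∧ Nat.card ↥U = k}
  have horb : Nat.card Mk * (e * k) = Nat.card ↥(Cfsg.Sz F m) := by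
    rw [← class_size U₀, hNcard U₀ hU₀ hU₀k, hU₀k]
    congr 1
    refine Nat.card_congr (Equiv.subtypeEquivRight fun U => ⟨fun hU => ?_, ?_⟩)
    · obtain ⟨g, hg⟩ := cyc_conj h hU₀ hU.1 (hU₀k ▸ hkmem) (hU₀k.trans hU.2.symm)
      exact ⟨ConjAct.toConjAct g, hg⟩
    · rintro ⟨g, rfl⟩
      exact ⟨(Subgroup.equivSMul g U₀).isCyclic.1 hU₀,
        (Nat.card_congr (Subgroup.equivSMul g U₀).toEquiv).symm.trans hU₀k⟩
  let P := {z : ↥(Cfsg.Sz F m) // orderOf z = i}
  have hconst : ∀ z : P, Nat.card {U // Fix k z.1 U} = Nat.card {U // Fix k x U} := by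
    intro z
    have hx1 : x ≠ 1 := fun e => by rw [e, orderOf_one] at hx; omega
    have hx4 : x ^ 4 = 1 := orderOf_dvd_iff_pow_eq_one.1 (by rw [hx]; rcases hi with rfl | rfl <;> norm_num)
    obtain ⟨g, hg⟩ := two_element_conj h hx1 hx4 (hx.trans z.2.symm)
    rcases hg with hg | hg
    · rw [← hg, fix_congr h]
    · have : Nat.card {U // Fix k z.1⁻¹ U} = Nat.card {U // Fix k z.1 U} :=
        Nat.card_congr (Equiv.subtypeEquivRight fun U => and_congr_right fun _ => inv_mem_iff)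
      rw [← this, ← hg, fix_congr h]
  let := Fintype.ofFinite P
  let := Fintype.ofFinite Mk
  have e1 : Nat.card (Σ z : P, {U // Fix k z.1 U}) = Nat.card P * Nat.card {U // Fix k x U} := by
    rw [Nat.card_sigma, Finset.sum_congr rfl (fun z _ => hconst z), Finset.sum_const, Finset.card_univ, smul_eq_mul,
      ← Nat.card_eq_fintype_card]
  have e2 : Nat.card (Σ U : Mk, {z : ↥(Subgroup.normalizer (U.1 : Set ↥(Cfsg.Sz F m))) //
      orderOf (z : ↥(Cfsg.Sz F m)) = i}) = Nat.card Mk * ((if i = 2 then 1 else e - 2) * k) := by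
    rw [Nat.card_sigma, Finset.sum_congr rfl (fun U _ => (card_normalizer_two h U.2.1 (U.2.2.symm ▸ hkmem) he2
      (hNcard U.1 U.2.1 U.2.2) hi).trans (by rw [U.2.2])), Finset.sum_const, Finset.card_univ, smul_eq_mul,
      Nat.card_eq_fintype_card]
  have e12 : Nat.card (Σ z : P, {U // Fix k z.1 U}) = Nat.card (Σ U : Mk,
      {z : ↥(Subgroup.normalizer (U.1 : Set ↥(Cfsg.Sz F m))) // orderOf (z : ↥(Cfsg.Sz F m)) = i}) :=
    Nat.card_congr ⟨fun p => ⟨⟨p.2.1, p.2.2.1⟩, ⟨⟨p.1.1, p.2.2.2⟩, p.1.2⟩⟩,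
      fun p => ⟨⟨p.2.1.1, p.2.2⟩, ⟨p.1.1, p.1.2, p.2.1.2⟩⟩, fun _ => rfl, fun _ => rfl⟩
  rw [e1, e2] at e12
  have hcP := card_two_elements h (i := i) (by omega) (by rcases hi with rfl | rfl <;> norm_num)
  set q := 2 ^ (2 * m + 1)
  have hif : (if i = 2 then q - 1 else q * (q - 1)) = (if i = 2 then 1 else q) * (q - 1) := by
    split_ifs <;> simp
  rw [hif] at hcP
  have hG : 0 < Nat.card ↥(Cfsg.Sz F m) := Nat.card_pos
  have hq1 : 0 < q - 1 := by have := (k_facts h (Set.mem_insert (q - 1) _)).1; omega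
  change Nat.card P * _ = _ at hcP
  generalize Nat.card {U // Fix k x U} = f at e12 ⊢
  generalize (if i = 2 then 1 else e - 2) = c at e12 ⊢
  generalize (if i = 2 then 1 else q) = n at hcP ⊢
  generalize Nat.card P = p at e12 hcP
  generalize Nat.card Mk = u at e12 horb
  generalize Nat.card ↥(Cfsg.Sz F m) = G at horb hcP hG
  refine Nat.eq_of_mul_eq_mul_left (Nat.mul_pos (Nat.mul_pos hG hq1) (show 0 < k by omega)) ?_
  calc G * (q - 1) * k * (f * n * e) = (G * (n * (q - 1))) * f * (e * k) := by ring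
    _ = (p * f) * (q ^ 2 * (q - 1)) * (e * k) := by rw [← hcP]; ring
    _ = (u * (e * k)) * (c * k) * (q ^ 2 * (q - 1)) := by rw [e12]; ring
    _ = G * (q - 1) * k * (c * q ^ 2) := by rw [horb]; ring

end Cfsg.Agent.KnownA.SzMembers
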