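import Cfsg.Agent.KnownA.Suz.Subgroups

/-!
The Suzuki groups over subfields inside a Suzuki group.
-/

set_option autoImplicit false

namespace Cfsg.Agent.KnownA.SzMaximal

open Cfsg.Agent.Suzuki Cfsg.Agent.KnownA.SzSubgroups Cfsg.Agent.KnownA.SzMembers
open Matrix

variable {F : Type*} [Field F] {m : ℕ} (h : Ctx F m) {K : Type*} [Field K] {k : ℕ} (hK : Ctx K k)

include h hK

theorem exists_ringHom (hdiv : 2 * k + 1 ∣ 2 * m + 1) : Nonempty (K →+* F) := by
  have := h.finite
  have := hK.finite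
  have := Fintype.ofFinite F
  have := Fintype.ofFinite K
  have := h.charP
  have := hK.charP
  have := Fact.mk Nat.prime_two
  let _ : Algebra (ZMod 2) F := ZMod.algebra F 2
  let _ : Algebra (ZMod 2) K := ZMod.algebra K 2
  have e1 : Module.finrank (ZMod 2) F = 2 * m + 1 := by
    have := Module.card_eq_pow_finrank (K := ZMod 2) (V := F)
    rw [ZMod.card, ← Nat.card_eq_fintype_card, h.card] at this
    exact (Nat.pow_right_injective le_rfl this).symm
  have e2 : Module.finrank (ZMod 2) K = 2 * k + 1 := by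
    have := Module.card_eq_pow_finrank (K := ZMod 2) (V := K)
    rw [ZMod.card, ← Nat.card_eq_fintype_card, hK.card] at this
    exact (Nat.pow_right_injective le_rfl this).symm
  obtain ⟨f⟩ := FiniteField.nonempty_algHom_of_finrank_dvd (F := ZMod 2) (K := K) (L := F) (by rw [e1, e2]; exact hdiv)
  exact ⟨f.toRingHom⟩

omit h in
theorem pow_iterate (x : K) (j : ℕ) : x ^ 2 ^ (j * (2 * k + 1)) = x := by
  induction j with
  | zero => simp
  | succ j ih => rw [Nat.succ_mul, pow_add, pow_mul, ih, hK.pow_q]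

theorem exponents (ι : K →+* F) (hdiv : 2 * k + 1 ∣ 2 * m + 1) (x : K) :
    ι (th k x) = th m (ι x) ∧ ι (th' k x) = th' m (ι x) := by
  obtain ⟨c, hc⟩ := hdiv
  obtain ⟨j, hj⟩ : ∃ j, m = j * (2 * k + 1) + k := by
    rcases Nat.even_or_odd c with ⟨i, rfl⟩ | ⟨i, rfl⟩
    · exfalso
      have : (2 * k + 1) * (i + i) = 2 * ((2 * k + 1) * i) := by ring
      omega
    · exact ⟨i, by nlinarith⟩
  have key : ∀ e, x ^ 2 ^ (j * (2 * k + 1) + e) = x ^ 2 ^ e := fun e => by
    rw [pow_add, pow_mul, pow_iterate hK]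
  simp only [th, th', ← map_pow]
  rw [hj, add_assoc, key, key]
  exact ⟨rfl, rfl⟩

theorem map_uMat (ι : K →+* F) (hdiv : 2 * k + 1 ∣ 2 * m + 1) (a b : K) :
    SpecialLinearGroup.map ι (uMat k a b) = uMat m (ι a) (ι b) := by
  apply Subtype.ext
  rw [SpecialLinearGroup.map_apply_coe]
  ext i j
  fin_cases i <;> fin_cases j <;>
    simp [uMat, ovf, (exponents h hK ι hdiv _).1]

theorem map_hMat (ι : K →+* F) (hdiv : 2 * k + 1 ∣ 2 * m + 1) (u : Kˣ) :
    SpecialLinearGroup.map ι (hMat k u) = hMat m (Units.map (ι : K →* F) u) := by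
  apply Subtype.ext
  rw [SpecialLinearGroup.map_apply_coe]
  ext i j
  fin_cases i <;> fin_cases j <;>
    simp [hMat, (exponents h hK ι hdiv _).2]

omit h hK in
theorem map_wMat (ι : K →+* F) : SpecialLinearGroup.map ι (wMat (F := K)) = wMat := by
  apply Subtype.ext
  rw [SpecialLinearGroup.map_apply_coe]
  ext i j
  fin_cases i <;> fin_cases j <;> simp [wMat]

/-- the Suzuki group over the smaller field is the subgroup defined over the image subfield -/
theorem iso_stdSub (ι : K →+* F) (hdiv : 2 * k + 1 ∣ 2 * m + 1) :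
    Nonempty (↥(Cfsg.Sz K k) ≃* ↥(stdSub h ι.fieldRange)) := by
  let ψ : ↥(Cfsg.Sz K k) →* SpecialLinearGroup (Fin 4) F := (SpecialLinearGroup.map ι).comp (Cfsg.Sz K k).subtype
  have hu : ∀ a b, ψ (uEl hK a b) = (uEl h (ι a) (ι b)).1 := fun a b => map_uMat h hK ι hdiv a b
  have hh : ∀ u, ψ (hEl hK u) = (hEl h (Units.map (ι : K →* F) u)).1 := fun u => map_hMat h hK ι hdiv u
  have hw : ψ (wEl hK) = (wEl h).1 := map_wMat ι
  have hmem : ∀ g, ψ g ∈ (stdSub h ι.fieldRange).map (Cfsg.Sz F m).subtype := by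
    intro g
    have eu : ∀ a b, ψ (uEl hK a b) ∈ (stdSub h ι.fieldRange).map (Cfsg.Sz F m).subtype := fun a b => by
      rw [hu]; exact ⟨_, uEl_mem_stdSub h ⟨a, rfl⟩ ⟨b, rfl⟩, rfl⟩
    have eh : ∀ u, ψ (hEl hK u) ∈ (stdSub h ι.fieldRange).map (Cfsg.Sz F m).subtype := fun u => by
      rw [hh]; exact ⟨_, hEl_mem_stdSub h ⟨(u : K), rfl⟩, rfl⟩
    have ew : ψ (wEl hK) ∈ (stdSub h ι.fieldRange).map (Cfsg.Sz F m).subtype := by
      rw [hw]; exact ⟨_, wEl_mem_stdSub h, rfl⟩
    rcases element_cases hK g with ⟨a, b, u, rfl⟩ | ⟨a, b, c, d, u, rfl⟩ <;> simp only [map_mul]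
    exacts [mul_mem (eu _ _) (eh _), mul_mem (mul_mem (mul_mem (eu _ _) ew) (eu _ _)) (eh _)]
  have hrange : ψ.range = (stdSub h ι.fieldRange).map (Cfsg.Sz F m).subtype := by
    refine le_antisymm (by rintro _ ⟨g, rfl⟩; exact hmem g) ?_
    rw [stdSub, MonoidHom.map_closure, Subgroup.closure_le]
    rintro _ ⟨g, ((⟨a, b, ⟨a', rfl⟩, ⟨b', rfl⟩, rfl⟩ | ⟨u, ⟨u', hu'⟩, rfl⟩) | rfl), rfl⟩
    · exact ⟨uEl hK a' b', hu a' b'⟩
    · have hne : u' ≠ 0 := fun e => u.ne_zero (by rw [← hu', e, map_zero])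
      refine ⟨hEl hK (Units.mk0 u' hne), (hh _).trans ?_⟩
      rw [show Units.map (ι : K →* F) (Units.mk0 u' hne) = u from Units.ext hu']
      rfl
    · exact ⟨wEl hK, hw⟩
  have hinj : Function.Injective ψ := by
    intro x y e
    have e' : (x.1.1).map ι = (y.1.1).map ι := congrArg Subtype.val e
    refine Subtype.ext (Subtype.ext ?_)
    exact Matrix.map_injective ι.injective e'
  exact ⟨((MonoidHom.ofInjective hinj).trans (MulEquiv.subgroupCongr hrange)).trans
    ((stdSub h ι.fieldRange).equivMapOfInjective _ (Cfsg.Sz F m).subtype_injective).symm⟩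

omit hK

theorem subfield_card (L : Subfield F) : ∃ e, Nat.card ↥L = 2 ^ e ∧ e ∣ 2 * m + 1 := by
  have := h.finite
  have := Fintype.ofFinite F
  have := Fintype.ofFinite ↥L
  have e1 := Module.card_eq_pow_finrank (K := ↥L) (V := F)
  rw [← Nat.card_eq_fintype_card, h.card, ← Nat.card_eq_fintype_card] at e1
  obtain ⟨e, -, he⟩ := (Nat.dvd_prime_pow Nat.prime_two).1
    (show Nat.card ↥L ∣ 2 ^ (2 * m + 1) by
      rw [e1]
      exact dvd_pow_self _ (Module.finrank_pos (R := ↥L) (M := F)).ne')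
  refine ⟨e, he, ?_⟩
  rw [he, ← pow_mul] at e1
  exact ⟨_, Nat.pow_right_injective le_rfl e1⟩

theorem subfield_eq {L L' : Subfield F} (e : Nat.card ↥L = Nat.card ↥L') : L = L' := by
  have := h.finite
  have key : ∀ A : Subfield F, (Units.map (A.subtype : ↥A →* F)).range =
      (powMonoidHom (Nat.card ↥A - 1) : Fˣ →* Fˣ).ker := by
    intro A
    have hinj : Function.Injective (Units.map (A.subtype : ↥A →* F)) :=
      Units.map_injective (Subtype.val_injective)
    have hc : Nat.card ↥(Units.map (A.subtype : ↥A →* F)).range = Nat.card ↥A - 1 := by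
      rw [← Nat.card_congr (MonoidHom.ofInjective hinj).toEquiv, Nat.card_units]
    refine Subgroup.eq_of_le_of_card_ge ?_ ?_
    · rintro x hx
      rw [MonoidHom.mem_ker, powMonoidHom_apply, ← hc]
      exact congrArg Subtype.val (pow_card_eq_one' (x := (⟨x, hx⟩ : ↥(Units.map (A.subtype : ↥A →* F)).range)))
    · rw [hc, IsCyclic.card_powMonoidHom_ker]
      refine Nat.le_of_dvd ?_ (Nat.gcd_dvd_right _ _)
      have : 1 < Nat.card ↥A := Finite.one_lt_card
      omega
  have e' := (key L).trans ((congrArg (fun n => (powMonoidHom (n - 1) : Fˣ →* Fˣ).ker) e).trans (key L').symm)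
  ext x
  by_cases hx : x = 0
  · subst hx; simp [zero_mem]
  have mem : ∀ A : Subfield F, x ∈ A ↔ Units.mk0 x hx ∈ (Units.map (A.subtype : ↥A →* F)).range := fun A =>
    ⟨fun hA => ⟨Units.mk0 ⟨x, hA⟩ (fun e => hx (congrArg Subtype.val e)), Units.ext rfl⟩,
      fun ⟨y, hy⟩ => by
        have h' : ((y : ↥A) : F) = x := congrArg Units.val hy
        rw [← h']
        exact (y : ↥A).2⟩
  rw [mem L, mem L', e']

end Cfsg.Agent.KnownA.SzMaximal
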