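import Mathlib

/-!
Arithmetic of the class equation of a subgroup of a Suzuki group.
-/

set_option autoImplicit false

namespace Cfsg.Agent.KnownA.SzMaximal

theorem coprime_nu {T k : ℕ} (hT : 2 ∣ T) : Nat.Coprime (1 + k * T) 2 := by
  rw [Nat.coprime_two_right, Nat.odd_iff]
  obtain ⟨j, rfl⟩ := hT
  rw [mul_left_comm, Nat.add_mul_mod_self_left]

/-- one dihedral class: the order is that of a group `PSL₂` -/
theorem case_two {T d k a : ℕ} (hT : 2 ∣ T) (hdT : d + 1 ≤ T) (hd : 2 ≤ d) (hk : 1 ≤ k) (ha : 1 ≤ a)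
    (heq : (T : ℚ) * d * (1 + k * T : ℕ) = a * (2 + (1 + k * T : ℕ) * ((T : ℚ) - 2))) :
    3 ∣ T * d * (1 + k * T) := by
  obtain ⟨t2, rfl⟩ : ∃ t2, T = t2 + 2 := ⟨T - 2, by omega⟩
  have hcop := coprime_nu (k := k) hT
  set ν := 1 + k * (t2 + 2) with hν
  have hnat : (t2 + 2) * d * ν = a * (2 + ν * t2) := by
    push_cast at heq
    have : ((((t2 + 2) * d * ν : ℕ)) : ℚ) = ((a * (2 + ν * t2) : ℕ) : ℚ) := by
      push_cast; linear_combination heq
    exact_mod_cast this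
  obtain ⟨i, hi⟩ : ν ∣ a := by
    refine Nat.Coprime.dvd_of_dvd_mul_right ?_ (hnat ▸ dvd_mul_left ν ((t2 + 2) * d))
    rw [show 2 + ν * t2 = 2 + t2 * ν by ring, Nat.coprime_add_mul_right_right]
    exact hcop
  have hν0 : 0 < ν := by omega
  have hnat2 : (t2 + 2) * d = i * (2 + ν * t2) := by
    refine Nat.eq_of_mul_eq_mul_right hν0 ?_
    rw [hnat, hi]; ring
  have hi1 : 1 ≤ i := by
    rcases Nat.eq_zero_or_pos i with rfl | hi0
    · rw [mul_zero] at hi; omega
    · exact hi0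
  have hν1 : t2 + 3 ≤ ν := by rw [hν]; nlinarith
  have hbound : ∀ v, v ≤ ν → 2 + v * t2 ≤ (t2 + 2) * d := by
    intro v hv
    rw [hnat2]
    calc 2 + v * t2 ≤ 1 * (2 + ν * t2) := by
          rw [one_mul]; exact Nat.add_le_add_left (Nat.mul_le_mul_right _ hv) _
      _ ≤ i * (2 + ν * t2) := Nat.mul_le_mul_right _ hi1
  have hdeq : d = t2 + 1 := by
    have := hbound _ hν1
    nlinarith
  have hνeq : ν = t2 + 3 := by
    by_contra hne
    have h1 := hbound (t2 + 4) (by omega)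
    rw [hdeq] at h1
    have h2 : (t2 + 2) * (t2 + 1) = 2 + t2 * t2 + 3 * t2 := by ring
    have h3 : (t2 + 4) * t2 = t2 * t2 + 4 * t2 := by ring
    have h4 : 0 < t2 := by
      rcases Nat.eq_zero_or_pos t2 with rfl | h4
      · simp at hnat2
        nlinarith
      · exact h4
    omega
  rw [hνeq, hdeq]
  have : (t2 + 1) % 3 = 0 ∨ (t2 + 2) % 3 = 0 ∨ (t2 + 3) % 3 = 0 := by
    clear hnat hnat2 hbound hT
    rcases (by omega : t2 % 3 = 0 ∨ t2 % 3 = 1 ∨ t2 % 3 = 2) with h3 | h3 | h3 <;> omega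
  rcases this with h3 | h3 | h3
  · exact (Dvd.dvd.mul_left (Nat.dvd_of_mod_eq_zero h3) _).mul_right _
  · exact ((Nat.dvd_of_mod_eq_zero h3).mul_right _).mul_right _
  · exact (Nat.dvd_of_mod_eq_zero h3).mul_left _

/-- two classes of the other kind: the orbit has one more point than the unipotent part -/
theorem case_four {T d k a b : ℕ} (hT : T = (d + 1) * (d + 1)) (hT2 : 2 ∣ T) (hd : 7 ≤ d)
    (hd2 : Nat.Coprime d 2) (hk : 1 ≤ k) (ha : 5 ≤ a) (hb : 5 ≤ b) (hab : Nat.Coprime a b)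
    (haT : Nat.Coprime a (T * d)) (hbT : Nat.Coprime b (T * d)) (hag : a ∣ T * d * (1 + k * T))
    (hbg : b ∣ T * d * (1 + k * T))
    (heq : (T : ℚ) * d * (1 + k * T : ℕ) * ((a : ℚ) + b) = 4 * (a * b) + 2 * (a * b) * (1 + k * T : ℕ) * ((T : ℚ) - 2)) :
    k = 1 := by
  obtain ⟨t2, hT2'⟩ : ∃ t2, T = t2 + 2 := ⟨T - 2, by have : 2 ≤ T := by rw [hT]; nlinarith
                                                     omega⟩
  have hcop := coprime_nu (k := k) hT2
  set ν := 1 + k * T with hν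
  have hnat : T * d * ν * (a + b) = (a * b) * (4 + 2 * t2 * ν) := by
    have hTq : (T : ℚ) = t2 + 2 := by exact_mod_cast hT2'
    have : ((T * d * ν * (a + b) : ℕ) : ℚ) = (((a * b) * (4 + 2 * t2 * ν) : ℕ) : ℚ) := by
      push_cast at heq ⊢; linear_combination heq + (2 * (a : ℚ) * b * (ν : ℚ)) * hTq
    exact_mod_cast this
  have hνab : a * b = ν := by
    apply Nat.dvd_antisymm
    · exact hab.mul_dvd_of_dvd_of_dvd (haT.dvd_of_dvd_mul_left hag) (hbT.dvd_of_dvd_mul_left hbg)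
    · refine Nat.Coprime.dvd_of_dvd_mul_right ?_ (hnat ▸ (dvd_mul_left ν (T * d)).mul_right (a + b))
      rw [Nat.coprime_add_mul_right_right]
      exact hcop.pow_right 2
  have hnat2 : T * d * (a + b) = 4 + 2 * t2 * ν := by
    refine Nat.eq_of_mul_eq_mul_left (show 0 < ν by omega) ?_
    calc ν * (T * d * (a + b)) = T * d * ν * (a + b) := by ring
      _ = ν * (4 + 2 * t2 * ν) := by rw [hnat, hνab]
  have key : ∀ x y : ℕ, x * y = ν → x ≤ y → 5 ≤ x → Nat.Coprime x (T * d) →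
      T * d * (x + y) = 4 + 2 * t2 * ν → k = 1 := by
    intro x y hxy hle hx5 hxT he
    have hcopx : Nat.Coprime d x := (hxT.coprime_dvd_right (dvd_mul_left d T)).symm
    have hTbig : 2 * d + 4 ≤ T := by rw [hT]; nlinarith
    have hxd : x ≤ d := by
      by_contra hlt
      have h1 : T * d + 1 ≤ t2 * x := by
        have : t2 * (d + 1) ≤ t2 * x := Nat.mul_le_mul_left _ (by omega)
        have : t2 * (d + 1) = t2 * d + t2 := by ring
        have : T * d = t2 * d + 2 * d := by rw [hT2']; ring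
        omega
      have h2 := Nat.mul_le_mul_right (2 * y) h1
      have h3 : T * d * (x + y) ≤ T * d * (2 * y) := Nat.mul_le_mul_left _ (by omega)
      have h4 : t2 * x * (2 * y) = 2 * t2 * ν := by rw [← hxy]; ring
      rw [add_mul] at h2
      omega
    have hxd' : x < d := by
      refine lt_of_le_of_ne hxd fun e => ?_
      rw [e, Nat.coprime_self] at hcopx
      omega
    have hTz' : (T : ℤ) = t2 + 2 := by exact_mod_cast hT2'
    have ez : (d : ℤ) * x ^ 2 = (2 * (x : ℤ) - d) * (1 + k * T) - 4 * x * k := by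
      have he' : (T : ℤ) * d * (x + y) = 4 + 2 * t2 * ν := by exact_mod_cast he
      have h2 : (x : ℤ) * y = ν := by exact_mod_cast hxy
      have h3 : (ν : ℤ) = 1 + k * T := by rw [hν]; push_cast; ring
      have hT0 : (T : ℤ) ≠ 0 := by omega
      refine mul_left_cancel₀ hT0 ?_
      linear_combination (x : ℤ) * he' - (T : ℤ) * d * h2 + ((2 * (x : ℤ) * ((T : ℤ) - 2)) - T * d) * h3
        - 2 * (x : ℤ) * (ν : ℤ) * hTz'
    have hTz : (T : ℤ) = ((d : ℤ) + 1) * ((d : ℤ) + 1) := by exact_mod_cast hT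
    have hdv : (d : ℤ) ∣ (k : ℤ) - 1 := by
      have h1 : (d : ℤ) ∣ (2 * (x : ℤ)) * ((k : ℤ) - 1) := by
        refine ⟨-((x : ℤ) ^ 2) - (1 + k * T) + 2 * x * k * ((d : ℤ) + 2) * (-1) * (-1) + 0, ?_⟩
        linear_combination ez + (2 * (x : ℤ) * k) * hTz
      refine IsCoprime.dvd_of_dvd_mul_left ?_ h1
      exact_mod_cast Nat.isCoprime_iff_coprime.2 (hd2.mul_right hcopx)
    by_contra hk1'
    have hkd : (d : ℤ) + 1 ≤ k := by
      have := Int.le_of_dvd (show (0 : ℤ) < (k : ℤ) - 1 by omega) hdv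
      omega
    have hδ : 1 ≤ 2 * (x : ℤ) - d := by
      by_contra hlt
      have h0 : (0 : ℤ) < d * x ^ 2 := mul_pos (by omega) (pow_pos (by omega) 2)
      have h1 : (0 : ℤ) ≤ 4 * x * k := by positivity
      linarith [mul_le_mul_of_nonneg_right (show (2 * (x : ℤ) - d) ≤ 0 by omega) (show (0 : ℤ) ≤ 1 + k * T by positivity)]
    have h5z : 1 + (k : ℤ) * (T - 4 * x) ≤ d * x ^ 2 := by
      rw [ez]; linarith [mul_le_mul_of_nonneg_right hδ (show (0 : ℤ) ≤ 1 + k * T by positivity)]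
    have h6 : ((d : ℤ) + 1) * ((d : ℤ) - 1) ^ 2 ≤ (k : ℤ) * (T - 4 * x) := by
      have h7 : ((d : ℤ) - 1) ^ 2 ≤ T - 4 * x := by
        have : (x : ℤ) ≤ d := by exact_mod_cast hxd
        rw [hTz]; linarith
      exact mul_le_mul hkd h7 (sq_nonneg _) (by omega)
    have h8 : (d : ℤ) * x ^ 2 ≤ d * ((d : ℤ) - 1) ^ 2 :=
      mul_le_mul_of_nonneg_left (pow_le_pow_left₀ (by omega) (by omega) 2) (by omega)
    linarith [sq_nonneg ((d : ℤ) - 1)]
  rcases le_total a b with hle | hle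
  · exact key a b hνab hle ha haT hnat2
  · exact key b a (by rw [mul_comm, hνab]) hle hb hbT (by rw [add_comm, hnat2])

end Cfsg.Agent.KnownA.SzMaximal
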