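import Cfsg.Agent.KnownA.Suz.Members
import Cfsg.Agent.Suzuki.SzAut

/-!
Subgroups of a Suzuki group containing an involution fixing the point at infinity: the part fixing
that point, and the conjugacy of involutions.
-/

set_option autoImplicit false

namespace Cfsg.Agent.KnownA.SzMaximal

open Cfsg.Agent.Suzuki Cfsg.Agent.KnownA.SzSubgroups Cfsg.Agent.KnownA.SzMembers

variable {F : Type*} [Field F] {m : ℕ} (h : Ctx F m)

/-- first coordinates of the unipotent elements of `M` -/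
def aSet (M : Subgroup ↥(Cfsg.Sz F m)) : Set F := {a | ∃ b, uEl h a b ∈ M}

/-- second coordinates of the central unipotent elements of `M` -/
def bSet (M : Subgroup ↥(Cfsg.Sz F m)) : Set F := {b | uEl h 0 b ∈ M}

/-- the diagonal parameters of `M` -/
def kGrp (M : Subgroup ↥(Cfsg.Sz F m)) : Subgroup Fˣ := M.comap (MonoidHom.mk' (hEl h) (hEl_mul h))

/-- `M` has an involution at infinity, moves infinity, and its point stabiliser splits over the diagonal -/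
structure Base (M : Subgroup ↥(Cfsg.Sz F m)) : Prop where
  split : ∀ a b : F, ∀ k : Fˣ, uEl h a b * hEl h k ∈ M → hEl h k ∈ M
  inv : ∃ b : F, b ≠ 0 ∧ uEl h 0 b ∈ M
  move : ∃ g ∈ M, g • inf' F m ≠ inf' F m

include h

theorem mem_kGrp {M : Subgroup ↥(Cfsg.Sz F m)} {k : Fˣ} : k ∈ kGrp h M ↔ hEl h k ∈ M := Iff.rfl

theorem uEl_fix {a b : F} (hab : ¬(a = 0 ∧ b = 0)) {p : Cfsg.suzukiOvoid F m} (hp : uEl h a b • p = p) :
    p = inf' F m := by
  rcases pt_cases p with rfl | ⟨x, y, rfl⟩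
  · rfl
  rw [uEl_smul_pt] at hp
  obtain ⟨e1, e2⟩ := pt_inj hp
  have ha : a = 0 := by linear_combination e1
  subst ha
  exact absurd ⟨rfl, by simpa using e2⟩ hab

/-- an involution fixes exactly one point -/
theorem involution_point {x : ↥(Cfsg.Sz F m)} (hx : x ≠ 1) (hxx : x * x = 1) :
    ∃ p : Cfsg.suzukiOvoid F m, x • p = p ∧ ∀ r : Cfsg.suzukiOvoid F m, x • r = r → r = p := by
  obtain ⟨U, ⟨hU, hxU⟩, -⟩ := partition h hx
  obtain ⟨P, rfl⟩ := sylow_of_two_element h hU hxU hx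
    (by rw [show x ^ 4 = x ^ (2 + 2) from rfl, pow_add, sq, hxx, one_mul])
  obtain ⟨t, ht⟩ := sylow_point h P
  obtain ⟨a, b, hab⟩ := (ht x).1 hxU
  have hne : ¬(a = 0 ∧ b = 0) := by
    rintro ⟨rfl, rfl⟩
    rw [uEl_zero] at hab
    exact hx (by rw [show x = t * (t⁻¹ * x * t) * t⁻¹ by group, hab]; group)
  refine ⟨t • inf' F m, ?_, fun r hr => ?_⟩
  · rw [show x = t * uEl h a b * t⁻¹ by rw [← hab]; group, mul_smul, mul_smul, inv_smul_smul, uEl_smul_inf]
  · have : uEl h a b • (t⁻¹ • r) = t⁻¹ • r := by rw [← hab, mul_smul, mul_smul, smul_inv_smul, hr]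
    exact (inv_smul_eq_iff.1 (uEl_fix h hne this))

theorem smul_fix_of_commute {x w : ↥(Cfsg.Sz F m)} {p : Cfsg.suzukiOvoid F m} (hp : x • p = p)
    (hu : ∀ r, x • r = r → r = p) (hc : w * x = x * w) : w • p = p :=
  hu _ (by rw [← mul_smul, ← hc, mul_smul, hp])

/-- involutions fixing different points are conjugate in the group they generate -/
theorem involution_conj {M : Subgroup ↥(Cfsg.Sz F m)} {x z : ↥(Cfsg.Sz F m)} (hxM : x ∈ M) (hzM : z ∈ M)
    (hx : x * x = 1) (hz : z * z = 1) {p q : Cfsg.suzukiOvoid F m} (hp : x • p = p) (hq : z • q = q)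
    (hpu : ∀ r, x • r = r → r = p) (hqu : ∀ r, z • r = r → r = q) (hpq : p ≠ q) :
    ∃ c ∈ M, c * z * c⁻¹ = x := by
  have := finite_sz h
  set y := x * z with hy
  have hxi : x⁻¹ = x := inv_eq_of_mul_eq_one_right hx
  have hzi : z⁻¹ = z := inv_eq_of_mul_eq_one_right hz
  have hyx : x * y * x⁻¹ = y⁻¹ := by
    rw [hy, mul_inv_rev, hxi, hzi, ← mul_assoc x x z, hx, one_mul]
  have hyz : z * y * z⁻¹ = y⁻¹ := by
    rw [hy, mul_inv_rev, hxi, hzi, mul_assoc, mul_assoc, hz, mul_one]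
  rcases Nat.even_or_odd (orderOf y) with ⟨j, hj⟩ | ⟨j, hj⟩
  · exfalso
    have hj0 : 0 < j := by have := orderOf_pos y; omega
    set w := y ^ j with hw
    have hw2 : w⁻¹ = w := inv_eq_of_mul_eq_one_right (by rw [hw, ← pow_add, ← hj, pow_orderOf_eq_one])
    have hw1 : w ≠ 1 := pow_ne_one_of_lt_orderOf hj0.ne' (by omega)
    have hwx : x * w = w * x := by
      rw [← mul_inv_eq_iff_eq_mul, hw, ← conj_pow, hyx, inv_pow, ← hw, hw2]
    have hwz : z * w = w * z := by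
      rw [← mul_inv_eq_iff_eq_mul, hw, ← conj_pow, hyz, inv_pow, ← hw, hw2]
    have h1 := smul_fix_of_commute h hp hpu hwx.symm
    have h2 := smul_fix_of_commute h hq hqu hwz.symm
    have h3 : w • (x • q) = x • q := by rw [← mul_smul, ← hwx, mul_smul, h2]
    have hne1 : x • q ≠ q := fun e => hpq (hpu q e).symm
    have hne2 : x • q ≠ p := fun e => hpq ((smul_left_cancel x (e.trans hp.symm)).symm)
    exact hw1 (three_fixed h hpq hne1.symm hne2.symm h1 h2 h3)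
  · refine ⟨y ^ (j + 1), M.pow_mem (M.mul_mem hxM hzM) _, ?_⟩
    have e : z * (y ^ (j + 1))⁻¹ = y ^ (j + 1) * z := by
      calc z * (y ^ (j + 1))⁻¹ = (z * y ^ (j + 1) * z⁻¹)⁻¹ * z := by group
        _ = _ := by rw [← conj_pow, hyz, inv_pow, inv_inv]
    rw [mul_assoc, e, ← mul_assoc, ← pow_add, show j + 1 + (j + 1) = orderOf y + 1 by omega, pow_succ,
      pow_orderOf_eq_one, one_mul, hy, mul_assoc, hz, mul_one]

theorem uEl_involution {b : F} (hb : b ≠ 0) :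
    uEl h 0 b ≠ 1 ∧ uEl h 0 b * uEl h 0 b = 1 ∧ uEl h 0 b • inf' F m = inf' F m ∧
      ∀ r, uEl h 0 b • r = r → r = inf' F m :=
  ⟨fun e => hb (uEl_inj h (e.trans (uEl_zero h).symm)).2, (uEl_sq_eq_one h).2 rfl, uEl_smul_inf h _ _,
    fun _ hr => uEl_fix h (fun e => hb e.2) hr⟩

variable {M : Subgroup ↥(Cfsg.Sz F m)}

/-- all involutions of `M` are conjugate in `M` -/
theorem Base.conj_inv (hB : Base h M) {b : F} (hb : b ≠ 0) (hbM : uEl h 0 b ∈ M) {z : ↥(Cfsg.Sz F m)}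
    (hzM : z ∈ M) (hz1 : z ≠ 1) (hzz : z * z = 1) : ∃ c ∈ M, c * z * c⁻¹ = uEl h 0 b := by
  obtain ⟨-, hxx, hxp, hxu⟩ := uEl_involution h hb
  obtain ⟨q, hq, hqu⟩ := involution_point h hz1 hzz
  by_cases hq0 : q = inf' F m
  · subst hq0
    obtain ⟨g, hg, hgm⟩ := hB.move
    have h1 : g * z * g⁻¹ * (g * z * g⁻¹) = 1 := by
      rw [show g * z * g⁻¹ * (g * z * g⁻¹) = g * (z * z) * g⁻¹ by group, hzz]; group
    have hp : (g * z * g⁻¹) • (g • inf' F m) = g • inf' F m := by rw [mul_smul, mul_smul, inv_smul_smul, hq]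
    have hpu : ∀ r, (g * z * g⁻¹) • r = r → r = g • inf' F m := fun r hr => by
      rw [mul_smul, mul_smul] at hr
      exact inv_smul_eq_iff.1 (hqu _ (eq_inv_smul_iff.2 hr))
    obtain ⟨c, hc, hce⟩ := involution_conj h hbM (mul_mem (mul_mem hg hzM) (inv_mem hg)) hxx h1 hxp hp hxu hpu hgm.symm
    exact ⟨c * g, mul_mem hc hg, by rw [← hce]; group⟩
  · exact involution_conj h hbM hzM hxx hzz hxp hq hxu hqu (Ne.symm hq0)

theorem kth_inj {k l : Fˣ} (e : (k : F) * th m (k : F) = (l : F) * th m (l : F)) : k = l := by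
  have h1 : ((k : F) / l) * th m ((k : F) / l) = 1 := by
    rw [div_eq_mul_inv, th_mul, th_inv]
    have : th m (l : F) ≠ 0 := fun e => l.ne_zero (h.th_eq_zero.1 e)
    have := l.ne_zero
    field_simp
    exact e
  exact Units.ext ((div_eq_one_iff_eq l.ne_zero).1 (h.mul_th_eq_one h1))

theorem Base.uEl_mem_of (hB : Base h M) {a b : F} {k : Fˣ} (hg : uEl h a b * hEl h k ∈ M) :
    uEl h a b ∈ M ∧ hEl h k ∈ M :=
  ⟨by simpa using mul_mem hg (inv_mem (hB.split a b k hg)), hB.split a b k hg⟩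

theorem Base.conj_mem {a b : F} (hab : uEl h a b ∈ M) {k : Fˣ} (hk : hEl h k ∈ M) :
    uEl h ((k : F) * a) ((k : F) * th m (k : F) * b) ∈ M := by
  rw [← hEl_conj h k a b]
  exact mul_mem (mul_mem hk hab) (inv_mem hk)

/-- the central part is one orbit of the diagonal part -/
theorem Base.bSet_eq (hB : Base h M) {b : F} (hb : b ≠ 0) (hbM : uEl h 0 b ∈ M) {c : F} :
    c ∈ bSet h M ↔ c = 0 ∨ ∃ k ∈ kGrp h M, c = (k : F) * th m (k : F) * b := by
  constructor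
  · intro hc
    by_cases hc0 : c = 0
    · exact Or.inl hc0
    obtain ⟨h1, h2, -, -⟩ := uEl_involution h hb
    obtain ⟨g, hg, hge⟩ := hB.conj_inv h hc0 hc hbM h1 h2
    obtain ⟨a', b', k, rfl, hk, -⟩ := central_eq h hb hge
    exact Or.inr ⟨k, hB.split a' b' k hg, hk⟩
  · rintro (rfl | ⟨k, hk, rfl⟩)
    · show uEl h 0 0 ∈ M
      rw [uEl_zero]; exact one_mem _
    · have := Base.conj_mem h hbM hk
      rwa [mul_zero] at this

theorem Base.card_bSet (hB : Base h M) : (bSet h M).ncard = Nat.card ↥(kGrp h M) + 1 := by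
  have := h.finite
  obtain ⟨b, hb, hbM⟩ := hB.inv
  let f : ↥(kGrp h M) → F := fun k => ((k : Fˣ) : F) * th m ((k : Fˣ) : F) * b
  have hf : Function.Injective f := fun k l e => Subtype.ext (kth_inj h (mul_right_cancel₀ hb e))
  have he : bSet h M = insert 0 (Set.range f) := by
    ext c
    rw [hB.bSet_eq h hb hbM, Set.mem_insert_iff, Set.mem_range]
    exact or_congr Iff.rfl ⟨fun ⟨k, hk, e⟩ => ⟨⟨k, hk⟩, e.symm⟩, fun ⟨k, e⟩ => ⟨k, k.2, e.symm⟩⟩
  have h0 : (0 : F) ∉ Set.range f := by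
    rintro ⟨k, e⟩
    exact mul_ne_zero (mul_ne_zero (Units.ne_zero _) fun e => Units.ne_zero (k : Fˣ) (h.th_eq_zero.1 e)) hb e
  rw [he, Set.ncard_insert_of_notMem h0, Set.ncard_range_of_injective hf]

theorem zero_mem_aSet : (0 : F) ∈ aSet h M := ⟨0, by rw [uEl_zero]; exact one_mem _⟩

/-- the first coordinates: nothing, or as many as the central ones -/
theorem Base.card_aSet (hB : Base h M) :
    aSet h M = {0} ∨ (aSet h M).ncard = Nat.card ↥(kGrp h M) + 1 := by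
  have := h.finite
  by_cases h0 : ∀ a ∈ aSet h M, a = 0
  · exact Or.inl (Set.eq_singleton_iff_unique_mem.2 ⟨zero_mem_aSet h, h0⟩)
  push Not at h0
  obtain ⟨a, ⟨b, hab⟩, ha⟩ := h0
  refine Or.inr (le_antisymm ?_ ?_)
  · rw [← hB.card_bSet h]
    refine Set.ncard_le_ncard_of_injOn (fun x => th m x * x) ?_ ?_
    · rintro x ⟨y, hy⟩
      show uEl h 0 (th m x * x) ∈ M
      rw [← uEl_sq h x y]
      exact mul_mem hy hy
    · intro x _ y _ e
      simp only at e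
      by_cases hx : x = 0
      · subst hx
        rw [mul_zero] at e
        exact ((mul_eq_zero.1 e.symm).elim (fun e => h.th_eq_zero.1 e) id).symm
      by_cases hy : y = 0
      · subst hy
        simp [hx, h.th_eq_zero] at e
      exact congrArg Units.val (kth_inj h (k := Units.mk0 x hx) (l := Units.mk0 y hy)
        (by simpa [mul_comm] using e))
  · let f : ↥(kGrp h M) → F := fun k => ((k : Fˣ) : F) * a
    have hf : Function.Injective f := fun k l e => Subtype.ext (Units.ext (mul_right_cancel₀ ha e))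
    have h0 : (0 : F) ∉ Set.range f := by rintro ⟨k, e⟩; exact mul_ne_zero (Units.ne_zero _) ha e
    rw [← Set.ncard_range_of_injective hf, ← Set.ncard_insert_of_notMem h0]
    refine Set.ncard_le_ncard ?_
    rintro x (rfl | ⟨k, rfl⟩)
    · exact zero_mem_aSet h
    · exact ⟨_, Base.conj_mem h hab k.2⟩

theorem same_first {a b c : F} (hb : uEl h a b ∈ M) (hc : uEl h a c ∈ M) : b + c ∈ bSet h M := by
  show uEl h 0 (b + c) ∈ M
  have h1 := mul_mem (inv_mem hb) hc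
  rw [uEl_inv, uEl_mul, h.add_self] at h1
  convert h1 using 2
  linear_combination -(th m a * a) * h.two_eq_zero

theorem card_unipotent : Nat.card ↥(M ⊓ uGrp h) = (aSet h M).ncard * (bSet h M).ncard := by
  rw [← Set.ncard_prod, ← Nat.card_coe_set_eq]
  let s : ↥(aSet h M) → F := fun a => a.2.choose
  have hs : ∀ a : ↥(aSet h M), uEl h (a : F) (s a) ∈ M := fun a => a.2.choose_spec
  let f : ↥(aSet h M ×ˢ bSet h M) → ↥(M ⊓ uGrp h) := fun p =>
    ⟨uEl h p.1.1 (s ⟨p.1.1, p.2.1⟩) * uEl h 0 p.1.2, mul_mem (hs ⟨p.1.1, p.2.1⟩) p.2.2,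
      mul_mem (uEl_mem h _ _) (uEl_mem h _ _)⟩
  refine (Nat.card_eq_of_bijective f ⟨?_, ?_⟩).symm
  · rintro ⟨⟨a, b⟩, hp⟩ ⟨⟨c, d⟩, hp'⟩ e
    have e' := congrArg Subtype.val e
    simp only [f, uEl_mul, mul_zero, add_zero] at e'
    obtain ⟨e1, e2⟩ := uEl_inj h e'
    subst e1
    exact Subtype.ext (Prod.ext rfl (add_left_cancel e2))
  · rintro ⟨g, hg, a, b, rfl⟩
    have ha : a ∈ aSet h M := ⟨b, hg⟩
    refine ⟨⟨(a, s ⟨a, ha⟩ + b), ha, same_first h (hs ⟨a, ha⟩) hg⟩, Subtype.ext ?_⟩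
    show uEl h a (s ⟨a, ha⟩) * uEl h 0 (s ⟨a, ha⟩ + b) = uEl h a b
    rw [uEl_mul, mul_zero, add_zero, add_zero]
    congr 1
    linear_combination s ⟨a, ha⟩ * h.two_eq_zero

theorem Base.card_stab (hB : Base h M) :
    Nat.card ↥(M ⊓ MulAction.stabilizer ↥(Cfsg.Sz F m) (inf' F m)) =
      Nat.card ↥(M ⊓ uGrp h) * Nat.card ↥(kGrp h M) := by
  rw [← Nat.card_prod]
  let f : ↥(M ⊓ uGrp h) × ↥(kGrp h M) → ↥(M ⊓ MulAction.stabilizer ↥(Cfsg.Sz F m) (inf' F m)) := fun p =>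
    ⟨p.1.1 * hEl h p.2.1, mul_mem p.1.2.1 p.2.2, by
      obtain ⟨a, b, e⟩ := p.1.2.2
      show (p.1.1 * hEl h p.2.1) • inf' F m = inf' F m
      rw [e]; exact uhEl_smul_inf h a b _⟩
  refine (Nat.card_eq_of_bijective f ⟨?_, ?_⟩).symm
  · rintro ⟨⟨g, hgM, a, b, rfl⟩, ⟨k, hk⟩⟩ ⟨⟨g', hgM', a', b', rfl⟩, ⟨k', hk'⟩⟩ e
    obtain ⟨rfl, rfl, rfl⟩ := uhEl_inj h (congrArg Subtype.val e)
    rfl
  · rintro ⟨g, hgM, hg⟩
    obtain ⟨a, b, k, rfl⟩ := fix_inf h hg
    obtain ⟨hu, hk⟩ := hB.uEl_mem_of h hgM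
    exact ⟨(⟨uEl h a b, hu, uEl_mem h a b⟩, ⟨k, hk⟩), rfl⟩

theorem inf_hGrp : Nat.card ↥(M ⊓ hGrp h) = Nat.card ↥(kGrp h M) := by
  let f : ↥(kGrp h M) → ↥(M ⊓ hGrp h) := fun k => ⟨hEl h k.1, k.2, k.1, rfl⟩
  refine (Nat.card_eq_of_bijective f ⟨fun k l e => Subtype.ext (hEl_inj h (congrArg Subtype.val e)), ?_⟩).symm
  rintro ⟨g, hg, k, rfl⟩
  exact ⟨⟨k, hg⟩, rfl⟩

theorem card_kGrp_dvd : Nat.card ↥(kGrp h M) ∣ Nat.card ↥M := by
  rw [← inf_hGrp]
  exact Subgroup.card_dvd_of_le inf_le_left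

end Cfsg.Agent.KnownA.SzMaximal
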