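import Cfsg.Agent.KnownA.Suz.Cases

/-!
The class equation of a subgroup of a Suzuki group with respect to the partition.
-/

set_option autoImplicit false

namespace Cfsg.Agent.KnownA.SzMaximal

open Cfsg.Agent.Suzuki Cfsg.Agent.KnownA.SzSubgroups Cfsg.Agent.KnownA.SzMembers

variable {F : Type*} [Field F] {m : ℕ} (h : Ctx F m)

/-- the share of the non-trivial elements of `M` lying in the members in `Y` -/
noncomputable def share (M : Subgroup ↥(Cfsg.Sz F m)) (Y : Finset (Subgroup ↥(Cfsg.Sz F m))) : ℚ :=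
  (∑ U ∈ Y, ((Nat.card ↥(M ⊓ U) : ℚ) - 1)) / Nat.card ↥M

/-- the share of one class of members -/
noncomputable def term (M U : Subgroup ↥(Cfsg.Sz F m)) : ℚ :=
  ((Nat.card ↥(M ⊓ U) : ℚ) - 1) / Nat.card ↥(M ⊓ Subgroup.normalizer (U : Set ↥(Cfsg.Sz F m)))

/-- conjugate under `M` -/
def MConj (M U V : Subgroup ↥(Cfsg.Sz F m)) : Prop := ∃ g ∈ M, U.map (MulAut.conj g).toMonoidHom = V

/-- closed under conjugation by `M` -/
def Inv (M : Subgroup ↥(Cfsg.Sz F m)) (Y : Finset (Subgroup ↥(Cfsg.Sz F m))) : Prop :=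
  ∀ U ∈ Y, ∀ g ∈ M, U.map (MulAut.conj g).toMonoidHom ∈ Y

theorem map_conj_mul (U : Subgroup ↥(Cfsg.Sz F m)) (x y : ↥(Cfsg.Sz F m)) :
    (U.map (MulAut.conj x).toMonoidHom).map (MulAut.conj y).toMonoidHom = U.map (MulAut.conj (y * x)).toMonoidHom := by
  rw [Subgroup.map_map, map_mul]
  rfl

theorem map_conj_one (U : Subgroup ↥(Cfsg.Sz F m)) : U.map (MulAut.conj (1 : ↥(Cfsg.Sz F m))).toMonoidHom = U := by
  rw [map_one]
  exact Subgroup.map_id U

theorem conj_self_mem {M : Subgroup ↥(Cfsg.Sz F m)} {g : ↥(Cfsg.Sz F m)} (hg : g ∈ M) :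
    M.map (MulAut.conj g).toMonoidHom = M := by
  ext x
  constructor
  · rintro ⟨y, hy, rfl⟩
    exact mul_mem (mul_mem hg hy) (inv_mem hg)
  · intro hx
    exact ⟨g⁻¹ * x * g, mul_mem (mul_mem (inv_mem hg) hx) hg, by simp [mul_assoc]⟩

theorem map_eq_iff_normalizer {U : Subgroup ↥(Cfsg.Sz F m)} {x : ↥(Cfsg.Sz F m)} :
    U.map (MulAut.conj x).toMonoidHom = U ↔ x ∈ Subgroup.normalizer (U : Set ↥(Cfsg.Sz F m)) := by
  constructor
  · intro e
    refine Subgroup.mem_normalizer_iff.2 fun y => ?_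
    conv_rhs => rw [← e]
    constructor
    · exact fun hy => ⟨y, hy, rfl⟩
    · rintro ⟨z, hz, ez⟩
      have : z = y := mul_left_cancel (mul_right_cancel ez)
      exact this ▸ hz
  · intro hx
    ext y
    constructor
    · rintro ⟨z, hz, rfl⟩
      exact (Subgroup.mem_normalizer_iff.1 hx z).1 hz
    · intro hy
      refine ⟨x⁻¹ * y * x, (Subgroup.mem_normalizer_iff.1 hx _).2 ?_, by simp [mul_assoc]⟩
      simpa [mul_assoc] using hy

include h

theorem card_inf_conj (M U : Subgroup ↥(Cfsg.Sz F m)) {g : ↥(Cfsg.Sz F m)} (hg : g ∈ M) :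
    Nat.card ↥(M ⊓ U.map (MulAut.conj g).toMonoidHom) = Nat.card ↥(M ⊓ U) := by
  conv_lhs => rw [← conj_self_mem hg]
  rw [← Subgroup.map_inf _ _ _ (MulAut.conj g).injective, Subgroup.card_map_of_injective (MulAut.conj g).injective]

theorem card_class (M U : Subgroup ↥(Cfsg.Sz F m)) :
    Nat.card {V // MConj M U V} * Nat.card ↥(M ⊓ Subgroup.normalizer (U : Set ↥(Cfsg.Sz F m))) = Nat.card ↥M := by
  have := finite_sz h
  set S := (Subgroup.normalizer (U : Set ↥(Cfsg.Sz F m))).subgroupOf M with hS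
  have e : Nat.card ↥S = Nat.card ↥(M ⊓ Subgroup.normalizer (U : Set ↥(Cfsg.Sz F m))) := by
    rw [Nat.card_congr (S.equivMapOfInjective M.subtype M.subtype_injective).toEquiv, hS,
      Subgroup.subgroupOf_map_subtype, inf_comm]
  let f : ↥M ⧸ S → {V // MConj M U V} :=
    Quotient.lift (fun g : ↥M => ⟨U.map (MulAut.conj (g : ↥(Cfsg.Sz F m))).toMonoidHom, g.1, g.2, rfl⟩) (by
      intro a b hab
      apply Subtype.ext
      have hn : (a : ↥(Cfsg.Sz F m))⁻¹ * b ∈ Subgroup.normalizer (U : Set ↥(Cfsg.Sz F m)) :=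
        Subgroup.mem_subgroupOf.1 (QuotientGroup.leftRel_apply.1 hab)
      show U.map _ = U.map _
      conv_lhs => rw [← map_eq_iff_normalizer.2 hn, map_conj_mul, mul_inv_cancel_left])
  have hf : Function.Bijective f := by
    constructor
    · intro x y
      induction x using Quotient.inductionOn with | h a => ?_
      induction y using Quotient.inductionOn with | h b => ?_
      intro exy
      refine Quotient.sound (QuotientGroup.leftRel_apply.2 (Subgroup.mem_subgroupOf.2 ?_))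
      apply map_eq_iff_normalizer.1
      have exy' : U.map (MulAut.conj (a : ↥(Cfsg.Sz F m))).toMonoidHom = U.map (MulAut.conj (b : ↥(Cfsg.Sz F m))).toMonoidHom :=
        congrArg Subtype.val exy
      show U.map (MulAut.conj ((a : ↥(Cfsg.Sz F m))⁻¹ * b)).toMonoidHom = U
      rw [← map_conj_mul, ← exy', map_conj_mul, inv_mul_cancel, map_conj_one]
    · rintro ⟨V, g, hg, rfl⟩
      exact ⟨Quotient.mk'' ⟨g, hg⟩, rfl⟩
  rw [← Nat.card_eq_of_bijective f hf, ← e]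
  exact (Subgroup.card_eq_card_quotient_mul_card_subgroup S).symm

/-- all members meeting `M` account for all its non-trivial elements -/
theorem exists_members (M : Subgroup ↥(Cfsg.Sz F m)) :
    ∃ X : Finset (Subgroup ↥(Cfsg.Sz F m)), (∀ U, U ∈ X ↔ Fam U ∧ M ⊓ U ≠ ⊥) ∧ Inv M X ∧
      share M X = 1 - 1 / Nat.card ↥M := by
  classical
  have := finite_sz h
  have : Fintype (Subgroup ↥(Cfsg.Sz F m)) := Fintype.ofFinite _
  refine ⟨Finset.univ.filter (fun U => Fam U ∧ M ⊓ U ≠ ⊥), fun U => by simp, ?_, ?_⟩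
  · intro U hU g hg
    simp only [Finset.mem_filter, Finset.mem_univ, true_and] at hU ⊢
    refine ⟨fam_conj h hU.1 g, fun e => hU.2 (Subgroup.eq_bot_of_card_eq _ ?_)⟩
    rw [← card_inf_conj h M U hg, e, Subgroup.card_bot]
  set X := Finset.univ.filter (fun U : Subgroup ↥(Cfsg.Sz F m) => Fam U ∧ M ⊓ U ≠ ⊥) with hX
  let f : (Σ U : {U // U ∈ X}, {y : ↥(M ⊓ U.1) // y ≠ 1}) → {y : ↥M // y ≠ 1} :=
    fun p => ⟨⟨p.2.1.1, p.2.1.2.1⟩, fun e => p.2.2 (Subtype.ext (show (p.2.1 : ↥(Cfsg.Sz F m)) = 1 from congrArg (fun q : ↥M => (q : ↥(Cfsg.Sz F m))) e))⟩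
  have hf : Function.Bijective f := by
    constructor
    · rintro ⟨⟨U, hU⟩, ⟨⟨y, hy⟩, hy1⟩⟩ ⟨⟨V, hV⟩, ⟨⟨z, hz⟩, hz1⟩⟩ e
      have e' : y = z := congrArg (fun q : {y : ↥M // y ≠ 1} => q.1.1) e
      subst e'
      simp only [hX, Finset.mem_filter, Finset.mem_univ, true_and] at hU hV
      obtain rfl := fam_unique h hU.1 hV.1 hy.2 hz.2 (fun e => hy1 (Subtype.ext e))
      rfl
    · rintro ⟨⟨y, hyM⟩, hy1⟩
      have hy : y ≠ 1 := fun e => hy1 (Subtype.ext e)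
      obtain ⟨U, ⟨hU, hyU⟩, -⟩ := partition h hy
      have hUX : U ∈ X := by
        simp only [hX, Finset.mem_filter, Finset.mem_univ, true_and]
        exact ⟨hU, fun e => hy (Subgroup.mem_bot.1 (e ▸ Subgroup.mem_inf.2 ⟨hyM, hyU⟩))⟩
      exact ⟨⟨⟨U, hUX⟩, ⟨⟨y, hyM, hyU⟩, fun e => hy (congrArg Subtype.val e)⟩⟩, rfl⟩
  have hone : ∀ H : Subgroup ↥(Cfsg.Sz F m), (Nat.card {y : ↥H // y ≠ 1} : ℚ) = (Nat.card ↥H : ℚ) - 1 := by
    intro H
    have : Fintype ↥H := Fintype.ofFinite _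
    rw [Nat.card_eq_fintype_card, Nat.card_eq_fintype_card, Fintype.card_subtype_compl,
      Fintype.card_subtype_eq, Nat.cast_sub Fintype.card_pos, Nat.cast_one]
  have e := Nat.card_eq_of_bijective f hf
  rw [Nat.card_sigma] at e
  have e' := congrArg (fun n : ℕ => (n : ℚ)) e
  simp only [Nat.cast_sum, hone] at e'
  rw [share, ← Finset.sum_coe_sort X, e', sub_div, div_self (by exact_mod_cast Nat.card_pos.ne')]

theorem share_empty (M : Subgroup ↥(Cfsg.Sz F m)) : share M ∅ = 0 := by simp [share]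

theorem share_nonneg (M : Subgroup ↥(Cfsg.Sz F m)) (Y : Finset (Subgroup ↥(Cfsg.Sz F m))) : 0 ≤ share M Y := by
  have := finite_sz h
  refine div_nonneg (Finset.sum_nonneg fun U _ => sub_nonneg.2 ?_) (Nat.cast_nonneg _)
  exact_mod_cast (Nat.card_pos : 0 < Nat.card ↥(M ⊓ U))

/-- taking off one class -/
theorem split (M : Subgroup ↥(Cfsg.Sz F m)) {Y : Finset (Subgroup ↥(Cfsg.Sz F m))} (hY : Inv M Y)
    {U : Subgroup ↥(Cfsg.Sz F m)} (hU : U ∈ Y) :
    ∃ Y' : Finset (Subgroup ↥(Cfsg.Sz F m)), (∀ V, V ∈ Y' ↔ V ∈ Y ∧ ¬ MConj M U V) ∧ Inv M Y' ∧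
      share M Y = term M U + share M Y' := by
  classical
  have := finite_sz h
  refine ⟨Y.filter (fun V => ¬ MConj M U V), fun V => by simp, ?_, ?_⟩
  · intro V hV g hg
    simp only [Finset.mem_filter] at hV ⊢
    refine ⟨hY V hV.1 g hg, ?_⟩
    rintro ⟨x, hx, e⟩
    exact hV.2 ⟨g⁻¹ * x, mul_mem (inv_mem hg) hx, by rw [← map_conj_mul, e, map_conj_mul, inv_mul_cancel, map_conj_one]⟩
  · rw [share, share, ← Finset.sum_filter_add_sum_filter_not Y (fun V => MConj M U V), add_div]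
    congr 1
    have hc : ∀ V ∈ Y.filter (fun V => MConj M U V),
        ((Nat.card ↥(M ⊓ V) : ℚ) - 1) = (Nat.card ↥(M ⊓ U) : ℚ) - 1 := by
      intro V hV
      obtain ⟨g, hg, rfl⟩ := (Finset.mem_filter.1 hV).2
      rw [card_inf_conj h M U hg]
    have hcard : (Y.filter (fun V => MConj M U V)).card = Nat.card {V // MConj M U V} := by
      rw [← Nat.card_eq_finsetCard]
      refine Nat.card_congr (Equiv.subtypeEquivRight fun V => ?_)
      simp only [Finset.mem_filter, and_iff_right_iff_imp]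
      rintro ⟨g, hg, rfl⟩
      exact hY U hU g hg
    rw [Finset.sum_congr rfl hc, Finset.sum_const, hcard, nsmul_eq_mul, term]
    have hN : (Nat.card ↥(M ⊓ Subgroup.normalizer (U : Set ↥(Cfsg.Sz F m))) : ℚ) ≠ 0 := by
      exact_mod_cast Nat.card_pos.ne'
    have hM : (Nat.card ↥M : ℚ) ≠ 0 := by exact_mod_cast Nat.card_pos.ne'
    have hk := card_class h M U
    have hk' : (Nat.card {V // MConj M U V} : ℚ) *
        Nat.card ↥(M ⊓ Subgroup.normalizer (U : Set ↥(Cfsg.Sz F m))) = Nat.card ↥M := by exact_mod_cast hk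
    rw [← hk']
    have : (Nat.card {V // MConj M U V} : ℚ) ≠ 0 := fun e => hM (by rw [← hk', e, zero_mul])
    field_simp

theorem mconj_refl (M U : Subgroup ↥(Cfsg.Sz F m)) : MConj M U U := ⟨1, one_mem _, map_conj_one U⟩

theorem term_le (M : Subgroup ↥(Cfsg.Sz F m)) {Y : Finset (Subgroup ↥(Cfsg.Sz F m))} (hY : Inv M Y)
    {U : Subgroup ↥(Cfsg.Sz F m)} (hU : U ∈ Y) : term M U ≤ share M Y := by
  obtain ⟨Y', -, -, e⟩ := split h M hY hU
  rw [e]
  linarith [share_nonneg h M Y']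

/-- the data of a class of cyclic members -/
theorem cyc_data (M : Subgroup ↥(Cfsg.Sz F m)) {U : Subgroup ↥(Cfsg.Sz F m)} (hU : IsCyclic ↥U)
    (hk : Nat.card ↥U ∈ ({2 ^ (2 * m + 1) - 1, 2 ^ (2 * m + 1) + 2 ^ (m + 1) + 1,
      2 ^ (2 * m + 1) - 2 ^ (m + 1) + 1} : Set ℕ)) (hMU : M ⊓ U ≠ ⊥) :
    5 ≤ Nat.card ↥(M ⊓ U) ∧ Odd (Nat.card ↥(M ⊓ U)) ∧ Nat.card ↥(M ⊓ U) ∣ Nat.card ↥M ∧
      ∃ n, (n = 1 ∨ n = 2 ∨ n = 4) ∧
        Nat.card ↥(M ⊓ Subgroup.normalizer (U : Set ↥(Cfsg.Sz F m))) = n * Nat.card ↥(M ⊓ U) ∧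
        (n = 4 → ∃ x ∈ M, orderOf x = 4) ∧ (Nat.card ↥U = 2 ^ (2 * m + 1) - 1 → n ≠ 4) := by
  have := finite_sz h
  obtain ⟨h5, hodd, hdvd⟩ := k_facts h hk
  have hdU : Nat.card ↥(M ⊓ U) ∣ Nat.card ↥U := Subgroup.card_dvd_of_le inf_le_right
  have ha5 : 5 ≤ Nat.card ↥(M ⊓ U) := by
    obtain ⟨p, hp, hpd⟩ := Nat.exists_prime_and_dvd (fun e => hMU (Subgroup.eq_bot_of_card_eq _ e))
    refine le_trans ?_ (Nat.le_of_dvd Nat.card_pos hpd)
    have h2 : p ≠ 2 := fun e => Odd.not_two_dvd_nat hodd (e ▸ hpd.trans hdU)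
    have h3 : p ≠ 3 := fun e => three_ndvd h.one_le (card_sz h ▸ (e ▸ (hpd.trans hdU).trans hdvd))
    have h4 : p ≠ 4 := fun e => by rw [e] at hp; norm_num at hp
    have := hp.two_le
    omega
  refine ⟨ha5, hodd.of_dvd_nat hdU, Subgroup.card_dvd_of_le inf_le_left, ?_⟩
  set N := Subgroup.normalizer (U : Set ↥(Cfsg.Sz F m)) with hN
  obtain ⟨e, he, hNc, hsplit⟩ : ∃ e, (e = 2 ∨ e = 4) ∧ Nat.card ↥N = e * Nat.card ↥U ∧
      (Nat.card ↥U = 2 ^ (2 * m + 1) - 1 → e = 2) := by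
    rcases hk with h1 | h1
    · exact ⟨2, Or.inl rfl, (card_normalizer_cyc h hU).1 h1, fun _ => rfl⟩
    · refine ⟨4, Or.inr rfl, (card_normalizer_cyc h hU).2 h1, fun e1 => ?_⟩
      exfalso
      have h4 : 2 ^ 2 ≤ 2 ^ (m + 1) := Nat.pow_le_pow_right (by norm_num) (by have := h.one_le; omega)
      have h8 : 2 ^ (m + 1) < 2 ^ (2 * m + 1) :=
        Nat.pow_lt_pow_right (by norm_num) (by have := h.one_le; omega)
      have hodd' : 2 ∣ 2 ^ (m + 1) := dvd_pow_self 2 (by omega)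
      rcases h1 with (h1 : Nat.card ↥U = 2 ^ (2 * m + 1) + 2 ^ (m + 1) + 1) |
        (h1 : Nat.card ↥U = 2 ^ (2 * m + 1) - 2 ^ (m + 1) + 1) <;> omega
  let N' := (M ⊓ N).subgroupOf N
  let U' := U.subgroupOf N
  have : U'.Normal := ⟨fun x hx y => Subgroup.mem_subgroupOf.2
    ((Subgroup.mem_normalizer_iff.1 y.2 x.1).1 (Subgroup.mem_subgroupOf.1 hx))⟩
  let ψ := (QuotientGroup.mk' U').comp (Subgroup.inclusion (inf_le_right : M ⊓ N ≤ N))
  have hker : ψ.ker.map (M ⊓ N).subtype = M ⊓ U := by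
    ext x
    constructor
    · rintro ⟨y, hy, rfl⟩
      exact ⟨y.2.1, Subgroup.mem_subgroupOf.1 ((QuotientGroup.eq_one_iff (N := U') _).1 (MonoidHom.mem_ker.1 hy))⟩
    · intro hx
      exact ⟨⟨x, hx.1, Subgroup.le_normalizer hx.2⟩, MonoidHom.mem_ker.2 ((QuotientGroup.eq_one_iff (N := U') _).2 (Subgroup.mem_subgroupOf.2 hx.2)), rfl⟩
  have hkc : Nat.card ↥ψ.ker = Nat.card ↥(M ⊓ U) := by
    rw [← hker, Subgroup.card_map_of_injective (M ⊓ N).subtype_injective]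
  have hidx : Nat.card ↥(M ⊓ N) = Nat.card ↥ψ.range * Nat.card ↥(M ⊓ U) := by
    rw [Subgroup.card_eq_card_quotient_mul_card_subgroup ψ.ker, hkc,
      Nat.card_congr (QuotientGroup.quotientKerEquivRange ψ).toEquiv]
  have hQ : Nat.card (↥N ⧸ U') = e := by
    have h1 := Subgroup.card_eq_card_quotient_mul_card_subgroup U'
    rw [Nat.card_congr (Subgroup.subgroupOfEquivOfLe (Subgroup.le_normalizer : U ≤ N)).toEquiv, hNc] at h1
    exact (Nat.eq_of_mul_eq_mul_right Nat.card_pos h1).symm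
  have hrd : Nat.card ↥ψ.range ∣ e := hQ ▸ Subgroup.card_subgroup_dvd_card _
  have hn : Nat.card ↥ψ.range = 1 ∨ Nat.card ↥ψ.range = 2 ∨ Nat.card ↥ψ.range = 4 := by
    have h4 : Nat.card ↥ψ.range ∣ 4 := hrd.trans (by rcases he with rfl | rfl <;> norm_num)
    have := Nat.le_of_dvd (by norm_num) h4
    have hpos : 0 < Nat.card ↥ψ.range := Nat.card_pos
    interval_cases hc : Nat.card ↥ψ.range <;> omega
  refine ⟨_, hn, hidx, fun h4 => ?_, fun e1 h4 => ?_⟩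
  · by_contra hno
    push Not at hno
    have hinv : ∀ x ∈ M ⊓ N, x ∉ U → x * x = 1 := by
      intro x hx hxU
      have hx4 : x ^ 4 = 1 := pow_four_outside h hU hk hx.2 hxU
      have hd : orderOf x ∣ 4 := orderOf_dvd_of_pow_eq_one hx4
      have hle := Nat.le_of_dvd (by norm_num) hd
      have hpos := orderOf_pos x
      have h' := hno x hx.1
      have hx2 : x ^ 2 = 1 := by
        interval_cases ho : orderOf x
        · rw [orderOf_eq_one_iff.1 ho, one_pow]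
        · rw [← ho, pow_orderOf_eq_one]
        · norm_num at hd
        · exact absurd rfl h'
      rwa [sq] at hx2
    obtain ⟨s, t, hs, ht, hst⟩ : ∃ s t : ↥(M ⊓ N), ψ s ≠ 1 ∧ ψ t ≠ 1 ∧ ψ s ≠ ψ t := by
      classical
      have : Fintype ↥ψ.range := Fintype.ofFinite _
      rw [Nat.card_eq_fintype_card] at h4
      have h3 : 2 ≤ (Finset.univ.erase (1 : ↥ψ.range)).card := by
        rw [Finset.card_erase_of_mem (Finset.mem_univ _), Finset.card_univ, h4]; norm_num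
      obtain ⟨⟨_, s, rfl⟩, hs, ⟨_, t, rfl⟩, ht, hne⟩ := Finset.one_lt_card.1 h3
      exact ⟨s, t, fun e => (Finset.mem_erase.1 hs).1 (Subtype.ext e), fun e => (Finset.mem_erase.1 ht).1 (Subtype.ext e),
        fun e => hne (Subtype.ext e)⟩
    have hout : ∀ x : ↥(M ⊓ N), ψ x ≠ 1 → (x : ↥(Cfsg.Sz F m)) ∉ U := fun x hx hxU =>
      hx ((QuotientGroup.eq_one_iff (N := U') _).2 (Subgroup.mem_subgroupOf.2 hxU))
    have hord : ∀ x : ↥(M ⊓ N), ψ x ≠ 1 → orderOf (x : ↥(Cfsg.Sz F m)) = 2 := fun x hx =>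
      (orderOf_eq_prime_iff).2 ⟨by rw [sq]; exact hinv x x.2 (hout x hx), fun e => hout x hx (e ▸ one_mem U)⟩
    have hst1 : ψ (s * t) ≠ 1 := by
      have e2 : ψ t * ψ t = 1 := by
        rw [← map_mul, show t * t = 1 from Subtype.ext (hinv t t.2 (hout t ht)), map_one]
      rw [map_mul]
      intro e3
      exact hst (mul_right_cancel (e3.trans e2.symm))
    obtain ⟨u, hu, hu1⟩ := (Subgroup.bot_or_exists_ne_one U).resolve_left fun e => by
      rw [e, Subgroup.card_bot] at h5; omega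
    have hb := inverts h hU hk (s * t).2.2 (hord _ hst1) hu
    have hb' : (s : ↥(Cfsg.Sz F m)) * t * u * ((s : ↥(Cfsg.Sz F m)) * t)⁻¹ = u := by
      rw [show (s : ↥(Cfsg.Sz F m)) * t * u * ((s : ↥(Cfsg.Sz F m)) * t)⁻¹ = s * (t * u * (t : ↥(Cfsg.Sz F m))⁻¹) * (s : ↥(Cfsg.Sz F m))⁻¹ by group,
        inverts h hU hk t.2.2 (hord t ht) hu, inverts h hU hk s.2.2 (hord s hs) (inv_mem hu), inv_inv]
    rw [show ((s * t : ↥(M ⊓ N)) : ↥(Cfsg.Sz F m)) = s * t from rfl, hb'] at hb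
    have hu2 : u * u = 1 := by
      nth_rewrite 2 [hb]
      rw [mul_inv_cancel]
    refine hu1 (orderOf_eq_one_iff.1 (Nat.eq_one_of_dvd_coprimes (Nat.coprime_two_right.2 hodd)
      (Subgroup.orderOf_dvd_natCard U hu) (orderOf_dvd_of_pow_eq_one (by rw [sq, hu2]))))
  · rw [h4, hsplit e1] at hrd
    norm_num at hrd

/-- non-conjugate classes of cyclic members have coprime orders in `M` -/
theorem coprime_classes (M : Subgroup ↥(Cfsg.Sz F m)) {U V : Subgroup ↥(Cfsg.Sz F m)} (hU : IsCyclic ↥U)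
    (hk : Nat.card ↥U ∈ ({2 ^ (2 * m + 1) - 1, 2 ^ (2 * m + 1) + 2 ^ (m + 1) + 1,
      2 ^ (2 * m + 1) - 2 ^ (m + 1) + 1} : Set ℕ)) (hV : Fam V) (hnc : ¬ MConj M U V) :
    Nat.Coprime (Nat.card ↥(M ⊓ U)) (Nat.card ↥(M ⊓ V)) := by
  have := finite_sz h
  rw [Nat.coprime_iff_gcd_eq_one]
  by_contra hg
  obtain ⟨p, hp, hpd⟩ := Nat.exists_prime_and_dvd hg
  have := Fact.mk hp
  have hp2 : p ≠ 2 := fun e => Odd.not_two_dvd_nat (k_facts h hk).2.1
    (e ▸ (hpd.trans (Nat.gcd_dvd_left _ _)).trans (Subgroup.card_dvd_of_le inf_le_right))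
  obtain ⟨⟨u, huI⟩, huo⟩ := exists_prime_orderOf_dvd_card' (G := ↥(M ⊓ U)) p (hpd.trans (Nat.gcd_dvd_left _ _))
  obtain ⟨⟨v, hvI⟩, hvo⟩ := exists_prime_orderOf_dvd_card' (G := ↥(M ⊓ V)) p (hpd.trans (Nat.gcd_dvd_right _ _))
  rw [Subgroup.orderOf_mk] at huo hvo
  obtain ⟨huM, huU⟩ := Subgroup.mem_inf.1 huI
  obtain ⟨hvM, hvV⟩ := Subgroup.mem_inf.1 hvI
  have hpg : ∀ x : ↥M, orderOf x = p → IsPGroup p ↥(Subgroup.zpowers x) := fun x hx =>
    IsPGroup.of_card (n := 1) (by rw [Nat.card_zpowers, hx, pow_one])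
  obtain ⟨Pu, hPu⟩ := (hpg ⟨u, huM⟩ (by rw [Subgroup.orderOf_mk, huo])).exists_le_sylow
  obtain ⟨Pv, hPv⟩ := (hpg ⟨v, hvM⟩ (by rw [Subgroup.orderOf_mk, hvo])).exists_le_sylow
  obtain ⟨⟨g, hgM⟩, hg'⟩ := MulAction.exists_smul_eq ↥M Pu Pv
  obtain ⟨Q, hQ⟩ := ((Pv.2).map M.subtype).exists_le_sylow
  have huQ : g * u * g⁻¹ ∈ (Q : Subgroup ↥(Cfsg.Sz F m)) := by
    refine hQ ⟨(⟨g, hgM⟩ : ↥M) * ⟨u, huM⟩ * (⟨g, hgM⟩ : ↥M)⁻¹, ?_, ?_⟩
    · rw [← hg', Sylow.coe_subgroup_smul, SetLike.mem_coe, Subgroup.mem_pointwise_smul_iff_inv_smul_mem,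
        MulAut.smul_def, MulAut.conj_inv_apply]
      rw [show ∀ a b : ↥M, a⁻¹ * (a * b * a⁻¹) * a = b from fun a b => by group]
      exact hPu (Subgroup.mem_zpowers _)
    · simp only [map_mul, map_inv, Subgroup.coe_subtype]
  have hvQ : v ∈ (Q : Subgroup ↥(Cfsg.Sz F m)) := hQ ⟨⟨v, hvM⟩, hPv (Subgroup.mem_zpowers _), rfl⟩
  have hmem := Cfsg.Agent.KnownA.ReeLocal.mem_zpowers_of_cyclic (sylow_cyclic h hp2 Q) hvQ huQ
    (by rw [conj_pow, hvo, ← huo, pow_orderOf_eq_one, mul_one, mul_inv_cancel])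
  refine hnc ⟨g, hgM, fam_unique h (fam_conj h (Or.inr ⟨hU, hk⟩) g) hV ((mem_conj_map h).2 huU)
    ((Subgroup.zpowers_le.2 hvV) hmem) (fun e => hp.ne_one ?_)⟩
  rw [← huo, conj_eq_one_iff.1 e, orderOf_one]

end Cfsg.Agent.KnownA.SzMaximal
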