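import Cfsg.Agent.KnownA.Suz.SubgroupBase

/-!
A subgroup of a Suzuki group with a large point stabiliser is defined over a subfield.
-/

set_option autoImplicit false

namespace Cfsg.Agent.KnownA.SzMaximal

open Cfsg.Agent.Suzuki Cfsg.Agent.KnownA.SzSubgroups Cfsg.Agent.KnownA.SzMembers

variable {F : Type*} [Field F] {m : ℕ} (h : Ctx F m)

/-- the subgroup defined over a subfield -/
def stdSub (L : Subfield F) : Subgroup ↥(Cfsg.Sz F m) :=
  Subgroup.closure ({g | ∃ a b : F, a ∈ L ∧ b ∈ L ∧ g = uEl h a b} ∪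
    {g | ∃ k : Fˣ, (k : F) ∈ L ∧ g = hEl h k} ∪ {wEl h})

include h

theorem uEl_mem_stdSub {L : Subfield F} {a b : F} (ha : a ∈ L) (hb : b ∈ L) : uEl h a b ∈ stdSub h L :=
  Subgroup.subset_closure (Or.inl (Or.inl ⟨a, b, ha, hb, rfl⟩))

theorem hEl_mem_stdSub {L : Subfield F} {k : Fˣ} (hk : (k : F) ∈ L) : hEl h k ∈ stdSub h L :=
  Subgroup.subset_closure (Or.inl (Or.inr ⟨k, hk, rfl⟩))

theorem wEl_mem_stdSub {L : Subfield F} : wEl h ∈ stdSub h L :=
  Subgroup.subset_closure (Or.inr rfl)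

theorem stdSub_top : stdSub h (⊤ : Subfield F) = ⊤ := by
  refine eq_top_iff.2 fun g _ => ?_
  rcases element_cases h g with ⟨a, b, k, rfl⟩ | ⟨a, b, c, d, k, rfl⟩
  · exact mul_mem (uEl_mem_stdSub h trivial trivial) (hEl_mem_stdSub h trivial)
  · exact mul_mem (mul_mem (mul_mem (uEl_mem_stdSub h trivial trivial) (wEl_mem_stdSub h))
      (uEl_mem_stdSub h trivial trivial)) (hEl_mem_stdSub h trivial)

variable {M : Subgroup ↥(Cfsg.Sz F m)}

theorem field_case (hB : Base h M) (hd : 2 ≤ Nat.card ↥(kGrp h M)) {b₁ : F} (hone : uEl h 1 b₁ ∈ M)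
    (hcard : (aSet h M).ncard = Nat.card ↥(kGrp h M) + 1) {c : Fˣ} (hw : wEl h * hEl h c ∈ M)
    (horb : ∀ g ∈ M, g • inf' F m = inf' F m ∨ ∃ a b : F, uEl h a b ∈ M ∧ g • inf' F m = pt m a b) :
    ∃ L : Subfield F, M = stdSub h L ∧ Nat.card ↥L = Nat.card ↥(kGrp h M) + 1 := by
  have := h.finite
  set K := kGrp h M with hKdef
  -- the first coordinates are the diagonal parameters and zero
  have hK : ∀ k ∈ K, (k : F) ∈ aSet h M := fun k hk =>
    ⟨_, by simpa using Base.conj_mem h hone hk⟩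
  have hA : ∀ a : F, a ∈ aSet h M ↔ a = 0 ∨ ∃ k ∈ K, (k : F) = a := by
    let f : ↥K → F := fun k => ((k : Fˣ) : F)
    have hf : Function.Injective f := fun k l e => Subtype.ext (Units.ext e)
    have h0 : (0 : F) ∉ Set.range f := by rintro ⟨k, e⟩; exact Units.ne_zero _ e
    have he : insert 0 (Set.range f) = aSet h M := by
      refine Set.eq_of_subset_of_ncard_le ?_ (le_of_eq ?_)
      · rintro x (rfl | ⟨k, rfl⟩)
        exacts [zero_mem_aSet h, hK _ k.2]
      · rw [hcard, Set.ncard_insert_of_notMem h0, Set.ncard_range_of_injective hf]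
    intro a
    rw [← he, Set.mem_insert_iff, Set.mem_range]
    exact or_congr Iff.rfl ⟨fun ⟨k, e⟩ => ⟨k, k.2, e⟩, fun ⟨k, hk, e⟩ => ⟨⟨k, hk⟩, e⟩⟩
  let L : Subfield F :=
    { carrier := aSet h M
      zero_mem' := zero_mem_aSet h
      one_mem' := ⟨b₁, hone⟩
      add_mem' := fun {x y} hx hy => by
        obtain ⟨u, hu⟩ := hx
        obtain ⟨v, hv⟩ := hy
        exact ⟨_, by rw [← uEl_mul]; exact mul_mem hu hv⟩
      neg_mem' := fun {x} hx => by rwa [h.neg_eq]
      mul_mem' := fun {x y} hx hy => by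
        rcases (hA x).1 hx with rfl | ⟨k, hk, rfl⟩
        · rw [zero_mul]; exact zero_mem_aSet h
        rcases (hA y).1 hy with rfl | ⟨l, hl, rfl⟩
        · rw [mul_zero]; exact zero_mem_aSet h
        rw [← Units.val_mul]
        exact hK _ (mul_mem hk hl)
      inv_mem' := fun x hx => by
        rcases (hA x).1 hx with rfl | ⟨k, hk, rfl⟩
        · rw [inv_zero]; exact zero_mem_aSet h
        rw [← Units.val_inv_eq_inv_val]
        exact hK _ (inv_mem hk) }
  have memL : ∀ {x : F}, x ∈ L ↔ x ∈ aSet h M := Iff.rfl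
  have hthL : ∀ {x : F}, x ∈ L → th m x ∈ L := fun hx => pow_mem hx _
  have h01 : uEl h 0 1 ∈ M := by
    have := mul_mem hone hone
    rwa [uEl_sq, th_one, one_mul] at this
  have hBL : bSet h M = (L : Set F) := by
    refine Set.eq_of_subset_of_ncard_le ?_ (le_of_eq (hcard.trans (hB.card_bSet h).symm))
    intro b hb
    rcases (hB.bSet_eq h one_ne_zero h01).1 hb with rfl | ⟨k, hk, rfl⟩
    · exact zero_mem L
    · rw [mul_one]
      exact mul_mem (show (k : F) ∈ L from hK k hk) (hthL (hK k hk))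
  have hb1 : b₁ ∈ L := by
    obtain ⟨⟨k, hk⟩, hk1⟩ := @exists_ne ↥K (Finite.one_lt_card_iff_nontrivial.1 hd) 1
    have hk1' : (k : F) ≠ 1 := fun e => hk1 (Subtype.ext (Units.ext e))
    have hsum : (1 : F) + k ∈ L := add_mem (one_mem L) (hK k hk)
    have hne : (1 : F) + k ≠ 0 := fun e => hk1' (by linear_combination e - h.two_eq_zero)
    obtain ⟨l, hl, hle⟩ := ((hA _).1 hsum).resolve_left hne
    have h1 := mul_mem hone (Base.conj_mem h hone hk)
    rw [uEl_mul, th_one, mul_one, one_mul] at h1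
    have h2 := Base.conj_mem h hone hl
    rw [mul_one, hle, h.th_add, th_one] at h2
    have h3 : (b₁ + (k : F) * th m (k : F) * b₁ + k) + (1 + k) * (1 + th m (k : F)) * b₁ ∈ (L : Set F) :=
      hBL ▸ same_first h h1 h2
    have h4 : ((k : F) + th m (k : F)) * b₁ + k ∈ (L : Set F) := by
      convert h3 using 1
      linear_combination -(b₁ + (k : F) * th m (k : F) * b₁) * h.two_eq_zero
    have hne2 : (k : F) + th m (k : F) ≠ 0 := fun e => by
      rcases h.th_fixed (x := (k : F)) (by linear_combination e - (k : F) * h.two_eq_zero) with e1 | e1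
      exacts [k.ne_zero e1, hk1' e1]
    have h5 := mul_mem (inv_mem (add_mem (show (k : F) ∈ L from hK k hk) (hthL (hK k hk))))
      (add_mem h4 (show (k : F) ∈ L from hK k hk))
    rwa [add_assoc, h.add_self, add_zero, ← mul_assoc, inv_mul_cancel₀ hne2, one_mul] at h5
  have hU : ∀ a b : F, uEl h a b ∈ M ↔ a ∈ L ∧ b ∈ L := by
    have hsec : ∀ a ∈ L, ∃ y ∈ L, uEl h a y ∈ M := by
      intro a ha
      rcases (hA a).1 ha with rfl | ⟨k, hk, rfl⟩
      · exact ⟨0, zero_mem L, by rw [uEl_zero]; exact one_mem _⟩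
      · exact ⟨(k : F) * th m (k : F) * b₁, mul_mem (mul_mem (hK k hk) (hthL (hK k hk))) hb1,
          by simpa using Base.conj_mem h hone hk⟩
    intro a b
    constructor
    · intro hab
      obtain ⟨y, hy, hay⟩ := hsec a ⟨b, hab⟩
      have h1 : y + b ∈ (L : Set F) := hBL ▸ same_first h hay hab
      refine ⟨⟨b, hab⟩, ?_⟩
      have h2 := add_mem hy h1
      rwa [← add_assoc, h.add_self, zero_add] at h2
    · rintro ⟨ha, hb⟩
      obtain ⟨y, hy, hay⟩ := hsec a ha
      have h1 : uEl h 0 (y + b) ∈ M := by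
        have : y + b ∈ bSet h M := hBL ▸ add_mem hy hb
        exact this
      have h2 := mul_mem hay h1
      rwa [uEl_mul, add_zero, mul_zero, add_zero, ← add_assoc, h.add_self, zero_add] at h2
  have hh : ∀ k : Fˣ, hEl h k ∈ M ↔ (k : F) ∈ L := by
    intro k
    refine ⟨fun hk => hK k hk, fun hk => ?_⟩
    obtain ⟨l, hl, e⟩ := ((hA _).1 hk).resolve_left k.ne_zero
    exact Units.ext e ▸ hl
  have hwinf : (wEl h * hEl h c) • inf' F m = pt m (0 : F) 0 := by rw [mul_smul, hEl_smul_inf, wEl_smul_inf]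
  have hc : (c : F) ∈ L := by
    set β := (c : F) * th m (c : F) with hβ
    have hβ0 : β ≠ 0 := mul_ne_zero c.ne_zero fun e => c.ne_zero (h.th_eq_zero.1 e)
    have hx : ∀ x y : F, x ∈ L → y ∈ L → ¬(x = 0 ∧ y = 0) →
        β * y / ovf m ((c : F) * x) (β * y) ∈ L ∧ (c : F) * x / ovf m ((c : F) * x) (β * y) ∈ L := by
      intro x y hxL hyL hne
      have hne' : ¬((c : F) * x = 0 ∧ β * y = 0) := fun e =>
        hne ⟨(mul_eq_zero.1 e.1).resolve_left c.ne_zero, (mul_eq_zero.1 e.2).resolve_left hβ0⟩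
      have e1 : (wEl h * hEl h c * (uEl h x y * (wEl h * hEl h c))) • inf' F m =
          pt m (β * y / ovf m ((c : F) * x) (β * y)) ((c : F) * x / ovf m ((c : F) * x) (β * y)) := by
        rw [mul_smul, mul_smul (uEl h x y), hwinf, uEl_smul_zero, mul_smul, hEl_smul_pt, wEl_smul_pt h hne']
      rcases horb _ (mul_mem hw (mul_mem ((hU x y).2 ⟨hxL, hyL⟩) hw)) with e | ⟨a, b, hab, e⟩
      · exact absurd (e1.symm.trans e) (pt_ne_inf _ _)
      · obtain ⟨ea, eb⟩ := pt_inj (e1.symm.trans e)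
        exact ea.symm ▸ eb.symm ▸ (hU a b).1 hab
    obtain ⟨-, h10⟩ := hx 1 0 (one_mem L) (zero_mem L) (fun e => one_ne_zero e.1)
    have hc2 : ovf m ((c : F) * 1) (β * 0) = (c : F) * β := by
      rw [hβ, ovf]; simp; ring
    rw [hc2, mul_one, div_mul_cancel_left₀ c.ne_zero] at h10
    have hβL : β ∈ L := by simpa using inv_mem h10
    obtain ⟨k, hk, e⟩ : ∃ k ∈ K, β = (k : F) * th m (k : F) := by
      rcases (hB.bSet_eq h one_ne_zero h01).1 (show β ∈ bSet h M from hBL ▸ hβL) with e | ⟨k, hk, e⟩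
      · exact absurd e hβ0
      · exact ⟨k, hk, by rw [e, mul_one]⟩
    exact kth_inj h e ▸ hK k hk
  have hwM : wEl h ∈ M := by
    simpa using mul_mem hw (inv_mem ((hh c).2 hc))
  refine ⟨L, le_antisymm (fun g hg => ?_) ((Subgroup.closure_le _).2 ?_), ?_⟩
  · have stab : ∀ x ∈ M, x • inf' F m = inf' F m → x ∈ stdSub h L := by
      intro x hx e
      obtain ⟨a, b, k, rfl⟩ := fix_inf h e
      obtain ⟨hu, hk⟩ := hB.uEl_mem_of h hx
      exact mul_mem (uEl_mem_stdSub h ((hU a b).1 hu).1 ((hU a b).1 hu).2) (hEl_mem_stdSub h ((hh k).1 hk))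
    rcases horb g hg with e | ⟨a, b, hab, e⟩
    · exact stab g hg e
    · have hz : ((wEl h)⁻¹ * (uEl h a b)⁻¹ * g) • inf' F m = inf' F m := by
        rw [mul_smul, mul_smul, e, inv_smul_eq_iff, inv_smul_eq_iff, wEl_smul_inf, uEl_smul_zero]
      have hz2 := stab _ (mul_mem (mul_mem (inv_mem hwM) (inv_mem hab)) hg) hz
      have := mul_mem (mul_mem (uEl_mem_stdSub h ((hU a b).1 hab).1 ((hU a b).1 hab).2) (wEl_mem_stdSub h (L := L))) hz2
      simpa [mul_assoc] using this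
  · rintro g ((⟨a, b, ha, hb, rfl⟩ | ⟨k, hk, rfl⟩) | rfl)
    · exact (hU a b).2 ⟨ha, hb⟩
    · exact (hh k).2 hk
    · exact hwM
  · rw [← hcard, ← Nat.card_coe_set_eq]
    rfl

end Cfsg.Agent.KnownA.SzMaximal
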