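import Cfsg.Agent.KnownA.Suz.SubgroupField
import Cfsg.Agent.KnownA.Suz.SubgroupCount

/-!
Moving a subgroup by the diagonal so that it contains a unipotent element with first coordinate one.
-/

set_option autoImplicit false

namespace Cfsg.Agent.KnownA.SzMaximal

open Cfsg.Agent.Suzuki Cfsg.Agent.KnownA.SzSubgroups Cfsg.Agent.KnownA.SzMembers

variable {F : Type*} [Field F] {m : ℕ} (h : Ctx F m)
include h

theorem hEl_map_uhEl (l : Fˣ) (a b : F) (k : Fˣ) :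
    hEl h l * (uEl h a b * hEl h k) * (hEl h l)⁻¹ =
      uEl h ((l : F) * a) ((l : F) * th m (l : F) * b) * hEl h k := by
  rw [← hEl_conj, hEl_inv]
  simp only [mul_assoc, ← hEl_mul, mul_comm k]

theorem field_case' {M : Subgroup ↥(Cfsg.Sz F m)} (hB : Base h M) (hd : 2 ≤ Nat.card ↥(kGrp h M))
    (hacard : (aSet h M).ncard = Nat.card ↥(kGrp h M) + 1) {c : Fˣ} (hwc : wEl h * hEl h c ∈ M)
    (horb : ∀ g ∈ M, g • inf' F m = inf' F m ∨ ∃ a b : F, uEl h a b ∈ M ∧ g • inf' F m = pt m a b) :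
    ∃ (L : Subfield F) (t : ↥(Cfsg.Sz F m)), M.map (MulAut.conj t).toMonoidHom = stdSub h L ∧
      Nat.card ↥L = Nat.card ↥(kGrp h M) + 1 := by
  have := h.finite
  obtain ⟨a1, ⟨y1, ha1⟩, ha10⟩ : ∃ x ∈ aSet h M, x ≠ 0 := by
    by_contra hc
    push Not at hc
    rw [Set.eq_singleton_iff_unique_mem.2 ⟨zero_mem_aSet h, hc⟩, Set.ncard_singleton] at hacard
    omega
  obtain ⟨l, hl⟩ : ∃ l : Fˣ, l = (Units.mk0 a1 ha10)⁻¹ := ⟨_, rfl⟩
  set M' := M.map (MulAut.conj (hEl h l)).toMonoidHom with hM'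
  have hmem : ∀ {x}, x ∈ M' ↔ ∃ y ∈ M, hEl h l * y * (hEl h l)⁻¹ = x := Iff.rfl
  have hstab : ∀ y : ↥(Cfsg.Sz F m), (hEl h l * y * (hEl h l)⁻¹) • inf' F m = inf' F m → y • inf' F m = inf' F m := by
    intro y e
    rw [mul_smul, mul_smul, hEl_inv, hEl_smul_inf] at e
    exact smul_left_cancel (hEl h l) (e.trans (hEl_smul_inf h l).symm)
  have huel : ∀ {x z : F}, uEl h x z ∈ M' ↔ ∃ a b : F, uEl h a b ∈ M ∧ x = (l : F) * a ∧ z = (l : F) * th m (l : F) * b := by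
    intro x z
    constructor
    · intro hx
      obtain ⟨y, hy, e⟩ := hmem.1 hx
      obtain ⟨a, b, k, rfl⟩ := fix_inf h (hstab y (by rw [e, uEl_smul_inf]))
      rw [hEl_map_uhEl, ← mul_one (uEl h x z), ← hEl_one h] at e
      obtain ⟨e1, e2, rfl⟩ := uhEl_inj h e
      exact ⟨a, b, by simpa [hEl_one] using hy, e1.symm, e2.symm⟩
    · rintro ⟨a, b, hab, rfl, rfl⟩
      exact hmem.2 ⟨_, hab, hEl_conj h l a b⟩
  have hkeq : kGrp h M' = kGrp h M := by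
    ext k
    have e1 : hEl h l * hEl h k * (hEl h l)⁻¹ = hEl h k := by
      rw [hEl_inv, ← hEl_mul, ← hEl_mul, mul_inv_cancel_comm]
    rw [mem_kGrp, mem_kGrp]
    conv_lhs => rw [← e1]
    exact mem_conj_map h
  have hB' : Base h M' := by
    refine ⟨fun x z k hx => ?_, ?_, ?_⟩
    · obtain ⟨y, hy, e⟩ := hmem.1 hx
      obtain ⟨a, b, k', rfl⟩ := fix_inf h (hstab y (by rw [e, uhEl_smul_inf]))
      rw [hEl_map_uhEl] at e
      obtain ⟨-, -, rfl⟩ := uhEl_inj h e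
      rw [← mem_kGrp, hkeq]
      exact hB.split a b k' hy
    · obtain ⟨b0, hb0, hb0M⟩ := hB.inv
      refine ⟨(l : F) * th m (l : F) * b0,
        mul_ne_zero (mul_ne_zero l.ne_zero fun e => l.ne_zero (h.th_eq_zero.1 e)) hb0,
        huel.2 ⟨0, b0, hb0M, (mul_zero _).symm, rfl⟩⟩
    · obtain ⟨x, hx, hxm⟩ := hB.move
      exact ⟨_, hmem.2 ⟨x, hx, rfl⟩, fun e => hxm (hstab x e)⟩
  have hone : uEl h 1 ((l : F) * th m (l : F) * y1) ∈ M' := by
    refine huel.2 ⟨a1, y1, ha1, ?_, rfl⟩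
    rw [hl, Units.val_inv_eq_inv_val, Units.val_mk0, inv_mul_cancel₀ ha10]
  have hcard' : (aSet h M').ncard = Nat.card ↥(kGrp h M') + 1 := by
    have : aSet h M' = (fun x => (l : F) * x) '' aSet h M := by
      ext x
      constructor
      · rintro ⟨z, hz⟩
        obtain ⟨a, b, hab, rfl, -⟩ := huel.1 hz
        exact ⟨a, ⟨b, hab⟩, rfl⟩
      · rintro ⟨a, ⟨b, hab⟩, rfl⟩
        exact ⟨_, huel.2 ⟨a, b, hab, rfl, rfl⟩⟩
    rw [this, Set.ncard_image_of_injective _ (mul_right_injective₀ l.ne_zero), hacard, hkeq]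
  have hw' : wEl h * hEl h (l⁻¹ * (c * l⁻¹)) ∈ M' := by
    refine hmem.2 ⟨_, hwc, ?_⟩
    have e : hEl h l * wEl h = wEl h * hEl h l⁻¹ := by
      have e' := wEl_conj h l⁻¹
      rw [hEl_inv, inv_inv] at e'
      rw [← e', mul_assoc, wEl_sq, mul_one]
    rw [← mul_assoc (hEl h l), e, hEl_inv, mul_assoc, mul_assoc, ← hEl_mul, ← hEl_mul]
  have horb' : ∀ x ∈ M', x • inf' F m = inf' F m ∨ ∃ a b : F, uEl h a b ∈ M' ∧ x • inf' F m = pt m a b := by
    intro x hx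
    obtain ⟨y, hy, rfl⟩ := hmem.1 hx
    rw [mul_smul, mul_smul, hEl_inv, hEl_smul_inf]
    rcases horb y hy with e | ⟨a, b, hab, e⟩
    · exact Or.inl (by rw [e, hEl_smul_inf])
    · exact Or.inr ⟨_, _, huel.2 ⟨a, b, hab, rfl, rfl⟩, by rw [e, hEl_smul_pt]⟩
  obtain ⟨L, hL, hLc⟩ := field_case h hB' (by rw [hkeq]; exact hd) hone hcard' hw' horb'
  exact ⟨L, hEl h l, hL, by rw [hLc, hkeq]⟩

end Cfsg.Agent.KnownA.SzMaximal
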