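import Cfsg.Agent.KnownA.Suz.SubgroupBase

/-!
The orbit of the point at infinity under a subgroup of a Suzuki group.
-/

set_option autoImplicit false

namespace Cfsg.Agent.KnownA.SzMaximal

open Cfsg.Agent.Suzuki Cfsg.Agent.KnownA.SzSubgroups Cfsg.Agent.KnownA.SzMembers

variable {F : Type*} [Field F] {m : ℕ} (h : Ctx F m)
include h

theorem orbit_data {M : Subgroup ↥(Cfsg.Sz F m)} (hB : Base h M) :
    ∃ k : ℕ, 1 ≤ k ∧
      Nat.card ↥M = Nat.card ↥(M ⊓ uGrp h) * Nat.card ↥(kGrp h M) * (1 + k * Nat.card ↥(M ⊓ uGrp h)) ∧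
      (k = 1 → (∃ g ∈ M, g • inf' F m = pt m (0 : F) 0) →
        ∀ g ∈ M, g • inf' F m = inf' F m ∨ ∃ a b : F, uEl h a b ∈ M ∧ g • inf' F m = pt m a b) := by
  classical
  have := finite_sz h
  have := finite_ovoid h
  set P : Set (Cfsg.suzukiOvoid F m) := {p | (∃ g ∈ M, g • inf' F m = p) ∧ p ≠ inf' F m} with hP
  have hmem : ∀ u : ↥(M ⊓ uGrp h), ∀ p ∈ P, (u : ↥(Cfsg.Sz F m)) • p ∈ P := by
    rintro u p ⟨⟨g, hg, rfl⟩, hne⟩
    refine ⟨⟨u.1 * g, mul_mem u.2.1 hg, mul_smul _ _ _⟩, fun e => hne ?_⟩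
    obtain ⟨a, b, eu⟩ := u.2.2
    rw [← inv_smul_smul (u : ↥(Cfsg.Sz F m)) (g • inf' F m), e, eu, inv_smul_eq_iff, uEl_smul_inf]
  let act : MulAction ↥(M ⊓ uGrp h) ↥P :=
    { smul := fun u p => ⟨(u : ↥(Cfsg.Sz F m)) • (p : Cfsg.suzukiOvoid F m), hmem u p.1 p.2⟩
      one_smul := fun p => Subtype.ext (one_smul ↥(Cfsg.Sz F m) (p : Cfsg.suzukiOvoid F m))
      mul_smul := fun u v p => Subtype.ext (mul_smul (u : ↥(Cfsg.Sz F m)) (v : ↥(Cfsg.Sz F m)) (p : Cfsg.suzukiOvoid F m)) }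
  have hfree : ∀ p : ↥P, MulAction.stabilizer ↥(M ⊓ uGrp h) p = ⊥ := by
    intro p
    refine (Subgroup.eq_bot_iff_forall _).2 fun u hu => ?_
    obtain ⟨a, b, eu⟩ := u.2.2
    by_contra hu1
    have hne : ¬(a = 0 ∧ b = 0) := by
      rintro ⟨rfl, rfl⟩
      exact hu1 (Subtype.ext (eu.trans (uEl_zero h)))
    have h1 : (u : ↥(Cfsg.Sz F m)) • (p : Cfsg.suzukiOvoid F m) = p := congrArg Subtype.val hu
    rw [eu] at h1
    exact p.2.2 (uEl_fix h hne h1)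
  obtain ⟨k, hk⟩ : ∃ k, Nat.card ↥P = k * Nat.card ↥(M ⊓ uGrp h) :=
    ⟨_, by rw [Nat.card_congr (MulAction.selfEquivOrbitsQuotientProd hfree), Nat.card_prod]⟩
  refine ⟨k, ?_, ?_, ?_⟩
  · obtain ⟨x, hx, hxm⟩ := hB.move
    have : Nonempty ↥P := ⟨⟨x • inf' F m, ⟨x, hx, rfl⟩, hxm⟩⟩
    have := Nat.card_pos (α := ↥P)
    rw [hk] at this
    exact Nat.pos_of_mul_pos_right this
  · have h1 := (MulAction.stabilizer ↥M (inf' F m)).card_mul_index
    rw [MulAction.index_stabilizer] at h1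
    have h2 : Nat.card ↥(MulAction.stabilizer ↥M (inf' F m)) =
        Nat.card ↥(M ⊓ MulAction.stabilizer ↥(Cfsg.Sz F m) (inf' F m)) := by
      rw [Nat.card_congr ((MulAction.stabilizer ↥M (inf' F m)).equivMapOfInjective M.subtype M.subtype_injective).toEquiv]
      congr 2
      ext x
      constructor
      · rintro ⟨y, hy, rfl⟩
        exact ⟨y.2, hy⟩
      · intro hx
        exact ⟨⟨x, hx.1⟩, hx.2, rfl⟩
    have h3 : (MulAction.orbit ↥M (inf' F m)).ncard = 1 + k * Nat.card ↥(M ⊓ uGrp h) := by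
      rw [← hk, Nat.card_coe_set_eq, add_comm]
      rw [← Set.ncard_sdiff_singleton_add_one (MulAction.mem_orbit_self (inf' F m))]
      congr 2
      ext p
      constructor
      · rintro ⟨⟨⟨g, hg⟩, e⟩, hne⟩
        exact ⟨⟨g, hg, e⟩, hne⟩
      · rintro ⟨⟨g, hg, e⟩, hne⟩
        exact ⟨⟨⟨g, hg⟩, e⟩, hne⟩
    rw [h2, hB.card_stab h, h3] at h1
    exact h1.symm
  · rintro rfl ⟨g0, hg0, e0⟩ g hg
    by_cases hgm : g • inf' F m = inf' F m
    · exact Or.inl hgm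
    let p0 : ↥P := ⟨pt m (0 : F) 0, ⟨g0, hg0, e0⟩, pt_ne_inf _ _⟩
    let f : ↥(M ⊓ uGrp h) → ↥P := fun u => u • p0
    have hinj : Function.Injective f := by
      intro u v euv
      have : v⁻¹ * u ∈ MulAction.stabilizer ↥(M ⊓ uGrp h) p0 := by
        rw [MulAction.mem_stabilizer_iff, mul_smul]
        show v⁻¹ • f u = _
        rw [euv, inv_smul_smul]
      rw [hfree, Subgroup.mem_bot, inv_mul_eq_one] at this
      exact this.symm
    obtain ⟨u, hu⟩ := ((Nat.bijective_iff_injective_and_card f).2 ⟨hinj, by rw [hk, one_mul]⟩).2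
      ⟨g • inf' F m, ⟨g, hg, rfl⟩, hgm⟩
    obtain ⟨a, b, eu⟩ := u.2.2
    refine Or.inr ⟨a, b, eu ▸ u.2.1, ?_⟩
    have hu' : (u : ↥(Cfsg.Sz F m)) • pt m (0 : F) 0 = g • inf' F m := congrArg Subtype.val hu
    rw [← hu', eu, uEl_smul_zero]

end Cfsg.Agent.KnownA.SzMaximal
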