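import Cfsg.Agent.KnownA.Suz.Subfield

/-!
The subgroup theorem and the subfield subgroups of the Suzuki groups.
-/

set_option autoImplicit false

namespace Cfsg.Agent.KnownA.SzMaximal

open Cfsg.Agent.Suzuki Cfsg.Agent.KnownA.SzSubgroups Cfsg.Agent.KnownA.SzMembers

theorem subgroups_statement {F : Type*} [Field F] [Fintype F] {m : ℕ} (hm : 1 ≤ m) (hF : Fintype.card F = 2 ^ (2 * m + 1)) (M : Subgroup ↥(Cfsg.Sz F m)) (hM : M ≠ ⊤) :
    (∃ P : Sylow 2 ↥(Cfsg.Sz F m), M ≤ Subgroup.normalizer ((P : Subgroup ↥(Cfsg.Sz F m)) : Set ↥(Cfsg.Sz F m))) ∨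
    (∃ U : Subgroup ↥(Cfsg.Sz F m), IsCyclic ↥U ∧ Nat.card ↥U ∈ ({2 ^ (2 * m + 1) - 1, 2 ^ (2 * m + 1) + 2 ^ (m + 1) + 1, 2 ^ (2 * m + 1) - 2 ^ (m + 1) + 1} : Set ℕ) ∧
      M ≤ Subgroup.normalizer (U : Set ↥(Cfsg.Sz F m))) ∨
    (∃ (K : Type) (_ : Field K) (_ : Fintype K) (k : ℕ), 1 ≤ k ∧ k < m ∧ Fintype.card K = 2 ^ (2 * k + 1) ∧ 2 * k + 1 ∣ 2 * m + 1 ∧
      ∃ S : Subgroup ↥(Cfsg.Sz F m), Nonempty (↥S ≃* ↥(Cfsg.Sz K k)) ∧ M ≤ S) := by
  have h : Ctx F m := ⟨hm, by rw [Nat.card_eq_fintype_card, hF]⟩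
  rcases classification h M with ⟨U, hU, hle⟩ | ⟨L, g, h8, hg⟩
  · rcases hU with ⟨P, rfl⟩ | ⟨hc, hk⟩
    · exact Or.inl ⟨P, hle⟩
    · exact Or.inr (Or.inl ⟨U, hc, hk, hle⟩)
  obtain ⟨e, he, hdvd⟩ := subfield_card h L
  obtain ⟨k, rfl⟩ : ∃ k, e = 2 * k + 1 := by
    rcases Nat.even_or_odd e with ⟨i, hi⟩ | ⟨i, hi⟩
    · obtain ⟨c, hc⟩ := hdvd
      rw [hi, show (i + i) * c = 2 * (i * c) by ring] at hc
      omega
    · exact ⟨i, hi⟩
  have hk1 : 1 ≤ k := by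
    by_contra hlt
    obtain rfl : k = 0 := by omega
    rw [he] at h8
    norm_num at h8
  have : Fact (Nat.Prime 2) := ⟨Nat.prime_two⟩
  let K := GaloisField 2 (2 * k + 1)
  let _ : Fintype K := Fintype.ofFinite K
  have hKc : Nat.card K = 2 ^ (2 * k + 1) := GaloisField.card 2 _ (by omega)
  have hK : Ctx K k := ⟨hk1, hKc⟩
  obtain ⟨ι⟩ := exists_ringHom h hK hdvd
  have hιc : Nat.card ↥ι.fieldRange = Nat.card ↥L := by
    rw [he, ← hKc]
    exact (Nat.card_congr (RingHom.rangeRestrictFieldEquiv ι).toEquiv).symm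
  obtain rfl := subfield_eq h hιc
  have hkm : k < m := by
    rcases Nat.lt_or_ge k m with hlt | hge
    · exact hlt
    exfalso
    have hle := Nat.le_of_dvd (by omega) hdvd
    obtain rfl : k = m := by omega
    have htop : ι.fieldRange = ⊤ := subfield_eq h (by
      rw [he, ← h.card]
      exact (Nat.card_congr (Equiv.subtypeUnivEquiv fun _ => trivial)).symm)
    rw [htop, stdSub_top] at hg
    exact hM (Subgroup.map_injective (MulAut.conj g).injective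
      (hg.trans (Subgroup.map_top_of_surjective _ (MulAut.conj g).surjective).symm))
  obtain ⟨φ⟩ := iso_stdSub h hK ι hdvd
  refine Or.inr (Or.inr ⟨K, inferInstance, inferInstance, k, hk1, hkm,
    by rw [← Nat.card_eq_fintype_card, hKc], hdvd, M, ⟨?_⟩, le_rfl⟩)
  exact ((M.equivMapOfInjective _ (MulAut.conj g).injective).trans (MulEquiv.subgroupCongr hg)).trans φ.symm

theorem not_solvable {F : Type*} [Field F] {m : ℕ} (h : Ctx F m) : ¬ Group.IsSolvable ↥(Cfsg.Sz F m) := by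
  intro hs
  obtain ⟨k, hk⟩ := hEl_ne_one h
  have : Nontrivial ↥(Cfsg.Sz F m) := ⟨⟨_, _, hk⟩⟩
  exact (Group.IsSolvable.commutator_lt_top_of_nontrivial (G := ↥(Cfsg.Sz F m))).ne (perfect h)

theorem subfield_statement {F : Type*} [Field F] [Fintype F] {m : ℕ} (hm : 1 ≤ m) (hF : Fintype.card F = 2 ^ (2 * m + 1)) {K : Type*} [Field K] [Fintype K] {k : ℕ} (hk : 1 ≤ k) (hK : Fintype.card K = 2 ^ (2 * k + 1)) (hdiv : 2 * k + 1 ∣ 2 * m + 1) :
    (∃ S : Subgroup ↥(Cfsg.Sz F m), Nonempty (↥S ≃* ↥(Cfsg.Sz K k))) ∧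
    ∀ S₁ S₂ : Subgroup ↥(Cfsg.Sz F m), Nonempty (↥S₁ ≃* ↥(Cfsg.Sz K k)) → Nonempty (↥S₂ ≃* ↥(Cfsg.Sz K k)) →
      ∃ g : ↥(Cfsg.Sz F m), S₂ = S₁.map (MulAut.conj g).toMonoidHom := by
  have h : Ctx F m := ⟨hm, by rw [Nat.card_eq_fintype_card, hF]⟩
  have hK' : Ctx K k := ⟨hk, by rw [Nat.card_eq_fintype_card, hK]⟩
  obtain ⟨ι⟩ := exists_ringHom h hK' hdiv
  obtain ⟨φ⟩ := iso_stdSub h hK' ι hdiv
  refine ⟨⟨_, ⟨φ.symm⟩⟩, ?_⟩
  have key : ∀ S : Subgroup ↥(Cfsg.Sz F m), Nonempty (↥S ≃* ↥(Cfsg.Sz K k)) →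
      ∃ g : ↥(Cfsg.Sz F m), S.map (MulAut.conj g).toMonoidHom = stdSub h ι.fieldRange := by
    rintro S ⟨ψ⟩
    rcases classification h S with ⟨U, hU, hle⟩ | ⟨L, g, h8, hg⟩
    · exfalso
      apply not_solvable hK'
      have := solvable_normalizer h hU
      exact solvable_of_surjective (f := ψ.toMonoidHom.comp
        (Subgroup.subgroupOfEquivOfLe hle).toMonoidHom) (ψ.surjective.comp (MulEquiv.surjective _))
    obtain ⟨e, he, hdvd⟩ := subfield_card h L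
    obtain ⟨j, rfl⟩ : ∃ j, e = 2 * j + 1 := by
      rcases Nat.even_or_odd e with ⟨i, hi⟩ | ⟨i, hi⟩
      · obtain ⟨c, hc⟩ := hdvd
        rw [hi, show (i + i) * c = 2 * (i * c) by ring] at hc
        omega
      · exact ⟨i, hi⟩
    have hj : Ctx ↥L j := ⟨by
      by_contra hlt
      obtain rfl : j = 0 := by omega
      rw [he] at h8
      norm_num at h8, he⟩
    obtain ⟨χ⟩ := iso_stdSub h hj L.subtype hdvd
    have hrange : L.subtype.fieldRange = L := by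
      ext x
      exact ⟨fun ⟨y, hy⟩ => hy ▸ y.2, fun hx => ⟨⟨x, hx⟩, rfl⟩⟩
    have hc : Nat.card ↥(Cfsg.Sz ↥L j) = Nat.card ↥(Cfsg.Sz K k) := by
      rw [← Nat.card_congr ψ.toEquiv, Nat.card_congr χ.toEquiv, hrange, ← hg,
        Subgroup.card_map_of_injective (MulAut.conj g).injective]
    have hjk : j = k := by
      have h1 := factorization_two hj
      rw [hc, factorization_two hK'] at h1
      omega
    subst hjk
    have hL : L = ι.fieldRange := subfield_eq h (by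
      rw [he, ← hK'.card]
      exact Nat.card_congr (RingHom.rangeRestrictFieldEquiv ι).toEquiv)
    exact ⟨g, by rw [hg, hL]⟩
  intro S₁ S₂ h1 h2
  obtain ⟨g₁, e1⟩ := key S₁ h1
  obtain ⟨g₂, e2⟩ := key S₂ h2
  refine ⟨g₂⁻¹ * g₁, ?_⟩
  rw [← map_conj_mul, e1, ← e2, map_conj_mul, inv_mul_cancel, map_conj_one]

end Cfsg.Agent.KnownA.SzMaximal
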