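import Cfsg.Agent.KnownA.Suz.SubgroupNormal
import Cfsg.Agent.KnownA.Suz.SubgroupOrbit
import Cfsg.Agent.KnownA.Suz.SubgroupArith
import Cfsg.Agent.KnownA.Suz.SubgroupCount

/-!
Every subgroup of a Suzuki group normalises a member of the partition or is defined over a subfield.
-/

set_option autoImplicit false

namespace Cfsg.Agent.KnownA.SzMaximal

open Cfsg.Agent.Suzuki Cfsg.Agent.KnownA.SzSubgroups Cfsg.Agent.KnownA.SzMembers

variable {F : Type*} [Field F] {m : ℕ} (h : Ctx F m)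

/-- the conclusion of the classification -/
def Good (M : Subgroup ↥(Cfsg.Sz F m)) : Prop :=
  (∃ U : Subgroup ↥(Cfsg.Sz F m), Fam U ∧ M ≤ Subgroup.normalizer (U : Set ↥(Cfsg.Sz F m))) ∨
    ∃ (L : Subfield F) (g : ↥(Cfsg.Sz F m)), 8 ≤ Nat.card ↥L ∧ M.map (MulAut.conj g).toMonoidHom = stdSub h L

include h

theorem le_normalizer_of_card (M : Subgroup ↥(Cfsg.Sz F m)) {U : Subgroup ↥(Cfsg.Sz F m)}
    (e : Nat.card ↥(M ⊓ Subgroup.normalizer (U : Set ↥(Cfsg.Sz F m))) = Nat.card ↥M) :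
    M ≤ Subgroup.normalizer (U : Set ↥(Cfsg.Sz F m)) := by
  have := finite_sz h
  exact inf_eq_left.1 (Subgroup.eq_of_le_of_card_ge inf_le_left e.ge)

theorem good_conj {M : Subgroup ↥(Cfsg.Sz F m)} (t : ↥(Cfsg.Sz F m))
    (hg : Good h (M.map (MulAut.conj t).toMonoidHom)) : Good h M := by
  rcases hg with ⟨U, hU, hle⟩ | ⟨L, g, h8, e⟩
  · refine Or.inl ⟨_, fam_conj h hU t⁻¹, fun x hx => ?_⟩
    have hn := hle ((mem_conj_map h).2 hx)
    have : (MulAut.conj t⁻¹).toMonoidHom (t * x * t⁻¹) ∈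
        (Subgroup.normalizer (U : Set ↥(Cfsg.Sz F m))).map (MulAut.conj t⁻¹).toMonoidHom := ⟨_, hn, rfl⟩
    rw [Subgroup.map_equiv_normalizer_eq] at this
    simpa [mul_assoc] using this
  · exact Or.inr ⟨L, g * t, h8, by rw [← e, map_conj_mul]⟩

theorem exists_involution {M : Subgroup ↥(Cfsg.Sz F m)} (he : 2 ∣ Nat.card ↥M) :
    ∃ z ∈ M, z ≠ 1 ∧ z * z = 1 := by
  have := finite_sz h
  have := Fact.mk Nat.prime_two
  obtain ⟨⟨z, hz⟩, ho⟩ := exists_prime_orderOf_dvd_card' (G := ↥M) 2 he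
  rw [Subgroup.orderOf_mk] at ho
  exact ⟨z, hz, fun e => by rw [e, orderOf_one] at ho; norm_num at ho, by rw [← sq, ← ho, pow_orderOf_eq_one]⟩

/-- the term of a class of cyclic members -/
theorem term_eq {M U : Subgroup ↥(Cfsg.Sz F m)} {n : ℕ}
    (e : Nat.card ↥(M ⊓ Subgroup.normalizer (U : Set ↥(Cfsg.Sz F m))) = n * Nat.card ↥(M ⊓ U)) :
    term M U = ((Nat.card ↥(M ⊓ U) : ℚ) - 1) / ((n : ℚ) * Nat.card ↥(M ⊓ U)) := by
  rw [term, e, Nat.cast_mul]

theorem term_bound {M U : Subgroup ↥(Cfsg.Sz F m)} {n : ℕ} (hn : n = 1 ∨ n = 2 ∨ n = 4)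
    (ha : 5 ≤ Nat.card ↥(M ⊓ U))
    (e : Nat.card ↥(M ⊓ Subgroup.normalizer (U : Set ↥(Cfsg.Sz F m))) = n * Nat.card ↥(M ⊓ U)) :
    term M U = (1 - 1 / (Nat.card ↥(M ⊓ U) : ℚ)) / n ∧ 4 / (5 * (n : ℚ)) ≤ term M U ∧
      1 / (Nat.card ↥(M ⊓ U) : ℚ) ≤ 1 / 5 ∧ 1 / 5 ≤ term M U := by
  have ha' : (5 : ℚ) ≤ Nat.card ↥(M ⊓ U) := by exact_mod_cast ha
  have hn0 : (0 : ℚ) < n := by exact_mod_cast (by omega : 0 < n)
  have hn4 : (n : ℚ) ≤ 4 := by exact_mod_cast (by omega : n ≤ 4)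
  have e1 : term M U = (1 - 1 / (Nat.card ↥(M ⊓ U) : ℚ)) / n := by
    rw [term_eq h e]
    field_simp
  have h1 : 1 / (Nat.card ↥(M ⊓ U) : ℚ) ≤ 1 / 5 := one_div_le_one_div_of_le (by norm_num) ha'
  have h2 : 4 / (5 * (n : ℚ)) ≤ term M U := by
    rw [e1, div_mul_eq_div_div]
    exact (div_le_div_iff_of_pos_right hn0).2 (by linarith)
  refine ⟨e1, h2, h1, le_trans ?_ h2⟩
  rw [le_div_iff₀ (by positivity)]
  linarith

theorem share_zero_empty {M : Subgroup ↥(Cfsg.Sz F m)} {Y : Finset (Subgroup ↥(Cfsg.Sz F m))}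
    (hY : Inv M Y) (hmem : ∀ U ∈ Y, (1 : ℚ) / 5 ≤ term M U) (hlt : share M Y < 1 / 5) : share M Y = 0 := by
  rcases Finset.eq_empty_or_nonempty Y with rfl | ⟨U, hU⟩
  · exact share_empty h M
  · linarith [term_le h M hY hU, hmem U hU]

/-- subgroups without involutions -/
theorem odd_case {M : Subgroup ↥(Cfsg.Sz F m)} (hodd : ¬ 2 ∣ Nat.card ↥M) : Good h M := by
  have := finite_sz h
  obtain ⟨X, hX, hinv, hs⟩ := exists_members h M
  have hdata : ∀ U ∈ X, 5 ≤ Nat.card ↥(M ⊓ U) ∧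
      Nat.card ↥(M ⊓ Subgroup.normalizer (U : Set ↥(Cfsg.Sz F m))) = 1 * Nat.card ↥(M ⊓ U) := by
    intro U hU
    obtain ⟨hF, hne⟩ := (hX U).1 hU
    rcases hF with ⟨P, rfl⟩ | ⟨hc, hk⟩
    · exfalso
      obtain ⟨j, hj⟩ := IsPGroup.iff_card.1 (P.2.to_le (inf_le_right : M ⊓ (P : Subgroup ↥(Cfsg.Sz F m)) ≤ P))
      rcases Nat.eq_zero_or_pos j with rfl | hj0
      · exact hne (Subgroup.eq_bot_of_card_eq _ (by rw [hj, pow_zero]))
      · exact hodd ((hj ▸ dvd_pow_self 2 hj0.ne').trans (Subgroup.card_dvd_of_le inf_le_left))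
    · obtain ⟨h5, -, -, n, hn, e, -, -⟩ := cyc_data h M hc hk hne
      refine ⟨h5, ?_⟩
      have hd : n ∣ Nat.card ↥M := (e ▸ dvd_mul_right n _).trans (Subgroup.card_dvd_of_le inf_le_left)
      obtain rfl : n = 1 := by
        rcases hn with rfl | rfl | rfl
        exacts [rfl, absurd hd hodd, absurd ((by norm_num : 2 ∣ 4).trans hd) hodd]
      exact e
  rcases Finset.eq_empty_or_nonempty X with rfl | ⟨U, hU⟩
  · rw [share_empty h] at hs
    refine Or.inl ⟨uGrp h, Or.inl ⟨uSylow h, (uSylow_coe h).symm⟩, ?_⟩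
    have h1 : (Nat.card ↥M : ℚ) = 1 := by
      have : (Nat.card ↥M : ℚ) ≠ 0 := by exact_mod_cast Nat.card_pos.ne'
      field_simp at hs
      linarith
    rw [Subgroup.eq_bot_of_card_eq M (by exact_mod_cast h1)]
    exact bot_le
  · obtain ⟨h5, e⟩ := hdata U hU
    obtain ⟨e1, -, h15, -⟩ := term_bound h (Or.inl rfl) h5 e
    obtain ⟨Y, hY, hYinv, hsY⟩ := split h M hinv hU
    have hg : (0 : ℚ) < 1 / Nat.card ↥M := by
      have : 0 < Nat.card ↥M := Nat.card_pos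
      positivity
    have h0 : share M Y = 0 := by
      refine share_zero_empty h hYinv (fun V hV => ?_) ?_
      · obtain ⟨h5', e'⟩ := hdata V ((hY V).1 hV).1
        exact (term_bound h (Or.inl rfl) h5' e').2.2.2
      · rw [hs, e1, Nat.cast_one, div_one] at hsY
        linarith
    rw [hs, e1, h0, add_zero, Nat.cast_one, div_one] at hsY
    refine Or.inl ⟨U, ((hX U).1 hU).1, le_normalizer_of_card h M ?_⟩
    rw [e, one_mul]
    have : (Nat.card ↥M : ℚ) = Nat.card ↥(M ⊓ U) := by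
      have := sub_right_injective hsY
      rwa [one_div, one_div, inv_inj] at this
    exact_mod_cast this.symm

set_option maxHeartbeats 1000000 in
theorem good_even {M : Subgroup ↥(Cfsg.Sz F m)} (hB : Base h M) :
    Good h M := by
  classical
  have := finite_sz h
  have := h.finite
  have := finite_ovoid h
  obtain ⟨b0, hb0, hb0M⟩ := hB.inv
  set g := Nat.card ↥M with hgdef
  set d := Nat.card ↥(kGrp h M) with hddef
  set T := Nat.card ↥(M ⊓ uGrp h) with hTdef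
  have hd0 : 0 < d := Nat.card_pos
  -- the size of the unipotent part
  have hpow : ∃ j, T = 2 ^ j := by
    refine IsPGroup.iff_card.1 (((IsPGroup.of_card (p := 2) (n := 2 * (2 * m + 1))
      (G := ↥(uGrp h)) (by rw [card_uGrp h, ← pow_mul, mul_comm])) ).to_le inf_le_right)
  have hTS : T = d + 1 ∧ aSet h M = {0} ∨ T = (d + 1) * (d + 1) ∧ (aSet h M).ncard = d + 1 := by
    rw [hTdef, card_unipotent h, hB.card_bSet h, ← hddef]
    rcases hB.card_aSet h with e | e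
    · exact Or.inl ⟨by rw [e, Set.ncard_singleton, one_mul], e⟩
    · exact Or.inr ⟨by rw [e, ← hddef], by rw [e]⟩
  obtain ⟨e, hS⟩ : ∃ e, d + 1 = 2 ^ e := by
    obtain ⟨j, hj⟩ := hpow
    have hd1 : d + 1 ∣ 2 ^ j := by
      rcases hTS with ⟨e, -⟩ | ⟨e, -⟩ <;> rw [← hj, e]
      exact dvd_mul_right _ _
    obtain ⟨i, -, hi⟩ := (Nat.dvd_prime_pow Nat.prime_two).1 hd1
    exact ⟨i, hi⟩
  have hd7 : d = 1 ∨ 7 ≤ d := by
    rcases lt_or_ge e 3 with he | he
    · interval_cases e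
      · norm_num at hS; omega
      · left; norm_num at hS; omega
      · exfalso
        norm_num at hS
        refine three_ndvd h.one_le (card_sz h ▸ ?_)
        have := (card_kGrp_dvd h (M := M)).trans (Subgroup.card_subgroup_dvd_card M)
        rwa [← hddef, show d = 3 by omega] at this
    · right
      have : 2 ^ 3 ≤ 2 ^ e := Nat.pow_le_pow_right (by norm_num) he
      norm_num at this
      omega
  -- the orbit of infinity
  obtain ⟨k, hk1, hgO, htrans⟩ := orbit_data h hB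
  rw [← hgdef, ← hTdef, ← hddef] at hgO
  set ν := 1 + k * T with hν
  have hT2 : 2 ≤ T := by rcases hTS with ⟨e, -⟩ | ⟨e, -⟩ <;> rw [e] <;> nlinarith
  have hν1 : T + 1 ≤ ν := by rw [hν]; nlinarith
  have hTeven : 2 ∣ T := by
    obtain ⟨j, hj⟩ := hpow
    rcases Nat.eq_zero_or_pos j with rfl | hj0
    · rw [pow_zero] at hj; omega
    · exact hj ▸ dvd_pow_self 2 hj0.ne'
  -- the members
  obtain ⟨X, hX, hinv, hs⟩ := exists_members h M
  have hUfam : Fam (uGrp h) := Or.inl ⟨uSylow h, (uSylow_coe h).symm⟩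
  obtain ⟨hx1, hxx, -, -⟩ := uEl_involution h hb0
  have hUX : uGrp h ∈ X := (hX _).2 ⟨hUfam, fun e => hx1 (Subgroup.mem_bot.1 (e ▸ Subgroup.mem_inf.2 ⟨hb0M, uEl_mem h 0 b0⟩))⟩
  have tU : term M (uGrp h) = ((T : ℚ) - 1) / (T * d) := by
    rw [term, normalizer_uGrp h, hB.card_stab h, ← hTdef, ← hddef, Nat.cast_mul]
  obtain ⟨X1, hX1, hinv1, hs1⟩ := split h M hinv hUX
  have hcyc : ∀ V ∈ X1, IsCyclic ↥V ∧ Nat.card ↥V ∈ ({2 ^ (2 * m + 1) - 1,
      2 ^ (2 * m + 1) + 2 ^ (m + 1) + 1, 2 ^ (2 * m + 1) - 2 ^ (m + 1) + 1} : Set ℕ) ∧ M ⊓ V ≠ ⊥ := by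
    intro V hV
    obtain ⟨hVX, hnc⟩ := (hX1 V).1 hV
    obtain ⟨hF, hne⟩ := (hX V).1 hVX
    rcases hF with ⟨P, rfl⟩ | ⟨hc, hk⟩
    · exfalso
      obtain ⟨j, hj⟩ := IsPGroup.iff_card.1 (P.2.to_le (inf_le_right : M ⊓ (P : Subgroup ↥(Cfsg.Sz F m)) ≤ P))
      rcases Nat.eq_zero_or_pos j with rfl | hj0
      · exact hne (Subgroup.eq_bot_of_card_eq _ (by rw [hj, pow_zero]))
      obtain ⟨z, ⟨hzM, hzP⟩, hz1, hzz⟩ := exists_involution h (M := M ⊓ (P : Subgroup ↥(Cfsg.Sz F m))) (hj ▸ dvd_pow_self 2 hj0.ne')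
      obtain ⟨c, hc, hce⟩ := hB.conj_inv h hb0 hb0M hzM hz1 hzz
      have e1 : (P : Subgroup ↥(Cfsg.Sz F m)).map (MulAut.conj c).toMonoidHom = uGrp h :=
        fam_unique h (fam_conj h (Or.inl ⟨P, rfl⟩) c) hUfam ((mem_conj_map h).2 hzP) (hce ▸ uEl_mem h 0 b0) (hce ▸ hx1)
      exact hnc ⟨c⁻¹, inv_mem hc, by rw [← e1, map_conj_mul, inv_mul_cancel, map_conj_one]⟩
    · exact ⟨hc, hk, hne⟩
  have hge : ∀ V ∈ X1, (1 : ℚ) / 5 ≤ term M V := by
    intro V hV
    obtain ⟨hc, hk, hne⟩ := hcyc V hV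
    obtain ⟨h5, -, -, n, hn, e, -, -⟩ := cyc_data h M hc hk hne
    exact (term_bound h hn h5 e).2.2.2
  have hfour : (∃ x ∈ M, orderOf x = 4) → T = (d + 1) * (d + 1) ∧ (aSet h M).ncard = d + 1 := by
    rintro ⟨x, hx, ho⟩
    refine hTS.resolve_left fun ⟨_, ha⟩ => ?_
    have hx2 : x ^ 2 ≠ 1 := pow_ne_one_of_lt_orderOf (by norm_num) (by omega)
    obtain ⟨c, hc, hce⟩ := hB.conj_inv h hb0 hb0M (pow_mem hx 2) hx2
      (by rw [← pow_add, show 2 + 2 = orderOf x from ho.symm, pow_orderOf_eq_one])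
    have hy : c * x * c⁻¹ ∈ uGrp h := by
      refine cent_le h hUfam (uEl_mem h 0 b0) hx1 (Subgroup.mem_centralizer_singleton_iff.2 ?_)
      rw [← hce]
      group
    obtain ⟨a, b, hab⟩ := hy
    have ha0 : a ∈ aSet h M := ⟨b, hab ▸ mul_mem (mul_mem hc hx) (inv_mem hc)⟩
    rw [ha, Set.mem_singleton_iff] at ha0
    subst ha0
    have h2 : c * x * c⁻¹ * (c * x * c⁻¹) = 1 := by rw [hab]; exact (uEl_sq_eq_one h).2 rfl
    exact hx1 (by rw [← hce, ← h2, pow_two]; group)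
  have hgpos : (0 : ℚ) < g := by exact_mod_cast (Nat.card_pos : 0 < Nat.card ↥M)
  have hgq : (g : ℚ) = T * d * ν := by exact_mod_cast hgO
  have hdq : (1 : ℚ) ≤ d := by exact_mod_cast hd0
  have hTq : (2 : ℚ) ≤ T := by exact_mod_cast hT2
  have hνq : (T : ℚ) + 1 ≤ ν := by exact_mod_cast hν1
  have hgle : (1 : ℚ) / g < 1 / (T * d) := by
    rw [hgq]
    exact one_div_lt_one_div_of_lt (by positivity) (by nlinarith [mul_le_mul hTq hdq zero_le_one (by linarith)])
  rw [hs, tU] at hs1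
  rcases hd7 with hd1 | hd7
  · -- the stabiliser is a 2-group
    rw [hd1] at hTS hs1 hgle hfour
    norm_num at hs1 hgle
    have hne : X1.Nonempty := by
      by_contra hne
      rw [Finset.not_nonempty_iff_eq_empty] at hne
      rw [hne, share_empty h] at hs1
      have : (1 : ℚ) - ((T : ℚ) - 1) / T = (T : ℚ)⁻¹ := by field_simp; ring
      linarith
    obtain ⟨U, hU⟩ := hne
    obtain ⟨hUc, hUk, hUne⟩ := hcyc U hU
    obtain ⟨h5, -, -, n, hn, eN, h4, -⟩ := cyc_data h M hUc hUk hUne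
    obtain ⟨et, hlow, h15, -⟩ := term_bound h hn h5 eN
    obtain ⟨X2, hX2, hinv2, hs2⟩ := split h M hinv1 hU
    have hle2 : term M U ≤ share M X1 := term_le h M hinv1 hU
    have hig : (0 : ℚ) < (g : ℚ)⁻¹ := by positivity
    have key : share M X2 = 1 / ((n : ℚ) * Nat.card ↥(M ⊓ U)) - 1 / g ∧ share M X2 < 1 / 5 := by
      have h2n : (1 : ℚ) / ((n : ℚ) * Nat.card ↥(M ⊓ U)) = 1 / (Nat.card ↥(M ⊓ U) : ℚ) / n := by
        rw [div_div, mul_comm]
      rw [et] at hs2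
      have hcases : (T = 2 ∧ n = 2) ∨ (T = 4 ∧ n = 4) := by
        rcases hTS with ⟨hT, ha⟩ | ⟨hT, -⟩ <;> norm_num at hT <;> rw [hT] at hs1 <;>
          rcases hn with rfl | rfl | rfl
        · norm_num at hs1 hlow; linarith
        · exact Or.inl ⟨hT, rfl⟩
        · have := (hfour (h4 rfl)).1; rw [hT] at this; norm_num at this
        · norm_num at hs1 hlow; linarith
        · norm_num at hs1 hlow; linarith
        · exact Or.inr ⟨hT, rfl⟩
      rcases hcases with ⟨hT, rfl⟩ | ⟨hT, rfl⟩ <;> rw [hT] at hs1 <;> rw [h2n] <;>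
        norm_num at hs1 hs2 h15 ⊢ <;> refine ⟨by linarith, by linarith⟩
    have h0' : share M X2 = 0 := share_zero_empty h hinv2 (fun V hV => hge V ((hX2 V).1 hV).1) key.2
    have e1 := key.1
    rw [h0', eq_comm, sub_eq_zero, one_div, one_div, inv_inj] at e1
    refine Or.inl ⟨U, Or.inr ⟨hUc, hUk⟩, le_normalizer_of_card h M ?_⟩
    rw [eN]
    exact_mod_cast e1
  · -- a large torus in the stabiliser
    obtain ⟨⟨k0, hk0⟩, hk01⟩ := @exists_ne ↥(kGrp h M) (Finite.one_lt_card_iff_nontrivial.1 (show 1 < d by omega)) 1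
    have hHne : M ⊓ hGrp h ≠ ⊥ := fun e =>
      hk01 (Subtype.ext (hEl_inj h ((Subgroup.mem_bot.1 (e ▸ Subgroup.mem_inf.2 ⟨hk0, k0, rfl⟩)).trans (hEl_one h).symm)))
    have hHX : hGrp h ∈ X1 := by
      refine (hX1 _).2 ⟨(hX _).2 ⟨fam_hGrp h, hHne⟩, ?_⟩
      rintro ⟨c, -, ec⟩
      have h1 : Nat.card ↥(hGrp h) = Nat.card ↥(uGrp h) := by
        rw [← ec, Subgroup.card_map_of_injective (MulAut.conj c).injective]
      rw [card_hGrp h, card_uGrp h, sq] at h1
      have : 2 ^ (2 * m + 1) ≤ 2 ^ (2 * m + 1) * 2 ^ (2 * m + 1) := Nat.le_mul_self _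
      have : 0 < 2 ^ (2 * m + 1) := pow_pos (by norm_num) _
      omega
    obtain ⟨-, -, -, n0, hn0, eN0, -, hn04⟩ := cyc_data h M (cyclic_hGrp h) (card_hGrp h ▸ Set.mem_insert _ _) hHne
    have hn04' := hn04 (card_hGrp h)
    rw [inf_hGrp h, ← hddef] at eN0
    have et0 : term M (hGrp h) = ((d : ℚ) - 1) / ((n0 : ℚ) * d) := by
      rw [term, inf_hGrp h, ← hddef, eN0, Nat.cast_mul]
    obtain ⟨X2, hX2, hinv2, hs2⟩ := split h M hinv1 hHX
    have hge2 : ∀ V ∈ X2, (1 : ℚ) / 5 ≤ term M V := fun V hV => hge V ((hX2 V).1 hV).1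
    have hd7q : (7 : ℚ) ≤ d := by exact_mod_cast hd7
    have hTd : 1 / ((T : ℚ) * d) ≤ 1 / (2 * (d : ℚ)) :=
      one_div_le_one_div_of_le (by positivity) (by nlinarith)
    have hd14 : 1 / (2 * (d : ℚ)) ≤ 1 / 14 := one_div_le_one_div_of_le (by norm_num) (by linarith)
    have hgi : (0 : ℚ) < 1 / g := by positivity
    rw [et0] at hs2
    rcases hn0 with rfl | rfl | rfl
    · -- no element inverts the torus
      exfalso
      have hsh : share M X2 = 1 / ((T : ℚ) * d) - 1 / g := by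
        have : (1 : ℚ) - ((T : ℚ) - 1) / (T * d) - ((d : ℚ) - 1) / (1 * d) = 1 / (T * d) := by field_simp; ring
        norm_num at hs1 hs2 this ⊢
        linarith
      have h00 := share_zero_empty h hinv2 hge2 (by rw [hsh]; linarith)
      linarith
    · -- the rest of the class equation
      have hsh : share M X2 = 1 / 2 - 1 / (2 * (d : ℚ)) + 1 / ((T : ℚ) * d) - 1 / g := by
        have : (1 : ℚ) - ((T : ℚ) - 1) / (T * d) - ((d : ℚ) - 1) / (2 * d) = 1 / 2 - 1 / (2 * d) + 1 / (T * d) := by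
          field_simp; ring
        push_cast at hs2
        linarith
      obtain ⟨w, hwN, hwH⟩ : ∃ w, w ∈ M ⊓ Subgroup.normalizer (hGrp h : Set ↥(Cfsg.Sz F m)) ∧ w ∉ hGrp h := by
        by_contra hc
        push Not at hc
        have hle : Nat.card ↥(M ⊓ Subgroup.normalizer (hGrp h : Set ↥(Cfsg.Sz F m))) ≤ Nat.card ↥(M ⊓ hGrp h) :=
          Nat.le_of_dvd Nat.card_pos (Subgroup.card_dvd_of_le fun x hx => ⟨hx.1, hc x hx⟩)
        rw [eN0, inf_hGrp h, ← hddef] at hle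
        omega
      obtain ⟨c, hc⟩ := (hGrp_normalizer_cases h hwN.2).resolve_left hwH
      have hwc : wEl h * hEl h c ∈ M := by
        rw [show hEl h c = wEl h * w from hc, ← mul_assoc, wEl_sq, one_mul]
        exact hwN.1
      obtain ⟨U, hU⟩ : X2.Nonempty := by
        by_contra hne
        rw [Finset.not_nonempty_iff_eq_empty] at hne
        rw [hne, share_empty h] at hsh
        linarith
      obtain ⟨hUX1, hUH⟩ := (hX2 U).1 hU
      obtain ⟨hUc, hUk, hUne⟩ := hcyc U hUX1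
      obtain ⟨h5, hao, hag, n, hn, eN, h4, -⟩ := cyc_data h M hUc hUk hUne
      obtain ⟨et, hlow, h15, -⟩ := term_bound h hn h5 eN
      obtain ⟨X3, hX3, hinv3, hs3⟩ := split h M hinv2 hU
      have hge3 : ∀ V ∈ X3, (1 : ℚ) / 5 ≤ term M V := fun V hV => hge2 V ((hX3 V).1 hV).1
      have hcopd : ∀ V ∈ X2, Nat.Coprime d (Nat.card ↥(M ⊓ V)) := fun V hV => by
        obtain ⟨hV1, hV2⟩ := (hX2 V).1 hV
        rw [hddef, ← inf_hGrp h]
        exact coprime_classes h M (cyclic_hGrp h) (card_hGrp h ▸ Set.mem_insert _ _)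
          ((hX V).1 ((hX1 V).1 hV1).1).1 hV2
      rw [et] at hs3
      set a := Nat.card ↥(M ⊓ U) with hadef
      have haq : (5 : ℚ) ≤ a := by exact_mod_cast h5
      rcases hn with rfl | rfl | rfl
      · exfalso
        have := term_le h M hinv2 hU
        norm_num at hlow
        linarith
      · -- dihedral classes: a group of type PSL₂
        exfalso
        have hs3' : share M X3 = 1 / (2 * (a : ℚ)) - 1 / (2 * (d : ℚ)) + 1 / ((T : ℚ) * d) - 1 / g := by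
          have : (1 - 1 / (a : ℚ)) / 2 = 1 / 2 - 1 / (2 * a) := by field_simp
          push_cast at hs3
          linarith
        have ha10 : 1 / (2 * (a : ℚ)) ≤ 1 / 10 := one_div_le_one_div_of_le (by norm_num) (by linarith)
        rw [share_zero_empty h hinv3 hge3 (by rw [hs3']; linarith)] at hs3'
        have heq : (T : ℚ) * d * ν = a * (2 + ν * ((T : ℚ) - 2)) := by
          have key : 2 * (a : ℚ) * T * d * ν * (1 / (2 * (a : ℚ)) - 1 / (2 * (d : ℚ)) + 1 / ((T : ℚ) * d) - 1 / g) =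
              (T : ℚ) * d * ν - a * (2 + ν * ((T : ℚ) - 2)) := by
            have hν0 : (ν : ℚ) ≠ 0 := by exact_mod_cast (show ν ≠ 0 by omega)
            rw [hgq]; field_simp; ring
          rw [← hs3', mul_zero] at key
          linarith
        have hdT : d + 1 ≤ T := by
          rcases hTS with ⟨e, -⟩ | ⟨e, -⟩
          · exact e.ge
          · rw [e]; exact Nat.le_mul_self _
        refine three_ndvd h.one_le (card_sz h ▸ (?_ : 3 ∣ g).trans (hgdef ▸ Subgroup.card_subgroup_dvd_card M))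
        rw [hgO]
        exact case_two hTeven hdT (by omega) hk1 (by omega) heq
      · -- two classes with a cyclic group of order four on top
        obtain ⟨hT, hacard⟩ := hfour (h4 rfl)
        have hs3' : share M X3 = 1 / 4 + 1 / (4 * (a : ℚ)) - 1 / (2 * (d : ℚ)) + 1 / ((T : ℚ) * d) - 1 / g := by
          have : (1 - 1 / (a : ℚ)) / 4 = 1 / 4 - 1 / (4 * a) := by field_simp
          push_cast at hs3
          linarith
        have ha20 : 1 / (4 * (a : ℚ)) ≤ 1 / 20 := one_div_le_one_div_of_le (by norm_num) (by linarith)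
        have hapos : 0 < 1 / (4 * (a : ℚ)) := by positivity
        obtain ⟨V, hV⟩ : X3.Nonempty := by
          by_contra hne
          rw [Finset.not_nonempty_iff_eq_empty] at hne
          rw [hne, share_empty h] at hs3'
          linarith
        obtain ⟨hV2, hVU⟩ := (hX3 V).1 hV
        obtain ⟨hVc, hVk, hVne⟩ := hcyc V ((hX2 V).1 hV2).1
        obtain ⟨h5', hbo, hbg, n', hn', eN', -, -⟩ := cyc_data h M hVc hVk hVne
        obtain ⟨et', hlow', h15', -⟩ := term_bound h hn' h5' eN'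
        obtain ⟨X4, hX4, hinv4, hs4⟩ := split h M hinv3 hV
        rw [et'] at hs4
        set b := Nat.card ↥(M ⊓ V) with hbdef
        have hbq : (5 : ℚ) ≤ b := by exact_mod_cast h5'
        obtain rfl : n' = 4 := by
          have := term_le h M hinv3 hV
          rcases hn' with rfl | rfl | rfl
          · exfalso; norm_num at hlow'; linarith
          · exfalso; norm_num at hlow'; linarith
          · rfl
        have hs4' : share M X4 = 1 / (4 * (a : ℚ)) + 1 / (4 * (b : ℚ)) - 1 / (2 * (d : ℚ)) + 1 / ((T : ℚ) * d) - 1 / g := by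
          have : (1 - 1 / (b : ℚ)) / 4 = 1 / 4 - 1 / (4 * b) := by field_simp
          push_cast at hs4
          linarith
        have hb20 : 1 / (4 * (b : ℚ)) ≤ 1 / 20 := one_div_le_one_div_of_le (by norm_num) (by linarith)
        rw [share_zero_empty h hinv4 (fun W hW => hge3 W ((hX4 W).1 hW).1) (by rw [hs4']; linarith)] at hs4'
        have heq : (T : ℚ) * d * ν * ((a : ℚ) + b) = 4 * (a * b) + 2 * (a * b) * ν * ((T : ℚ) - 2) := by
          have key : 4 * (a : ℚ) * b * T * d * ν * (1 / (4 * (a : ℚ)) + 1 / (4 * (b : ℚ)) - 1 / (2 * (d : ℚ)) + 1 / ((T : ℚ) * d) - 1 / g) =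
              (T : ℚ) * d * ν * ((a : ℚ) + b) - (4 * (a * b) + 2 * (a * b) * ν * ((T : ℚ) - 2)) := by
            have hν0 : (ν : ℚ) ≠ 0 := by exact_mod_cast (show ν ≠ 0 by omega)
            rw [hgq]; field_simp; ring
          rw [← hs4', mul_zero] at key
          linarith
        have hdodd : Nat.Coprime d 2 := by
          rw [Nat.coprime_two_right, Nat.odd_iff]
          have : 2 ∣ 2 ^ e := dvd_pow_self 2 (fun e0 => by rw [e0, pow_zero] at hS; omega)
          omega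
        have hcopT : ∀ x : ℕ, Odd x → Nat.Coprime d x → Nat.Coprime x (T * d) := fun x hx hxd => by
          obtain ⟨j, hj⟩ := hpow
          exact Nat.Coprime.mul_right (hj ▸ (Nat.coprime_two_right.2 hx).pow_right j) hxd.symm
        have hk' : k = 1 := case_four hT hTeven hd7 hdodd hk1 h5 h5'
          (coprime_classes h M hUc hUk (Or.inr ⟨hVc, hVk⟩) hVU)
          (hcopT a hao (hcopd U hU)) (hcopT b hbo (hcopd V hV2)) (hgO ▸ hag) (hgO ▸ hbg) heq
        have horb := htrans hk' ⟨_, hwc, by rw [mul_smul, hEl_smul_inf, wEl_smul_inf]⟩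
        obtain ⟨L, t, hL, hLc⟩ := field_case' h hB (by rw [← hddef]; omega) (by rw [hacard, ← hddef]) hwc horb
        exact Or.inr ⟨L, t, by rw [hLc, ← hddef]; omega, hL⟩
    · exact absurd rfl hn04'

theorem u_conj_uh (x y a b x' y' : F) (k : Fˣ) :
    ∃ a' c' : F, uEl h x y * (uEl h a b * hEl h k) * uEl h x' y' = uEl h a' c' * hEl h k := by
  rw [← mul_assoc, uEl_mul, ← mul_one (uEl h x' y'), ← hEl_one h, uhEl_mul, mul_one]
  exact ⟨_, _, rfl⟩

/-- every subgroup normalises a member of the partition or is defined over a subfield -/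
theorem classification (M : Subgroup ↥(Cfsg.Sz F m)) : Good h M := by
  have := finite_sz h
  have := h.finite
  by_cases h2 : 2 ∣ Nat.card ↥M
  swap
  · exact odd_case h h2
  obtain ⟨z, hzM, hz1, hzz⟩ := exists_involution h h2
  obtain ⟨p, hp, hpu⟩ := involution_point h hz1 hzz
  obtain ⟨t, ht⟩ := exists_smul_inf h p
  refine good_conj h t⁻¹ ?_
  set M1 := M.map (MulAut.conj t⁻¹).toMonoidHom with hM1
  obtain ⟨b, hb, hbM⟩ : ∃ b : F, b ≠ 0 ∧ uEl h 0 b ∈ M1 := by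
    have hz' : t⁻¹ * z * t⁻¹⁻¹ ∈ M1 := (mem_conj_map h).2 hzM
    have h0 : (t⁻¹ * z * t⁻¹⁻¹) • inf' F m = inf' F m := by
      rw [inv_inv, mul_smul, mul_smul, ht, hp, inv_smul_eq_iff, ht]
    have hu : ∀ r, (t⁻¹ * z * t⁻¹⁻¹) • r = r → r = inf' F m := fun r hr => by
      rw [inv_inv, mul_smul, mul_smul, inv_smul_eq_iff] at hr
      exact smul_left_cancel t ((hpu _ hr).trans ht.symm)
    obtain ⟨a, b, e, hne⟩ := unipotent_of_unique h h0 hu
    have hsq : uEl h a b * uEl h a b = 1 := by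
      rw [← e, inv_inv, show t⁻¹ * z * t * (t⁻¹ * z * t) = t⁻¹ * (z * z) * t by group, hzz]
      group
    obtain rfl := (uEl_sq_eq_one h).1 hsq
    exact ⟨b, fun e => hne ⟨rfl, e⟩, e ▸ hz'⟩
  clear_value M1
  by_cases hmove : ∀ g ∈ M1, g • inf' F m = inf' F m
  · refine Or.inl ⟨uGrp h, Or.inl ⟨uSylow h, (uSylow_coe h).symm⟩, ?_⟩
    rw [normalizer_uGrp]
    exact hmove
  push Not at hmove
  -- the image of the point stabiliser in the diagonal group
  let J : Subgroup Fˣ :=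
    { carrier := {k | ∃ a b : F, uEl h a b * hEl h k ∈ M1}
      one_mem' := ⟨0, 0, by rw [uEl_zero, hEl_one, one_mul]; exact one_mem _⟩
      mul_mem' := by
        rintro x y ⟨a, c, hx⟩ ⟨a', c', hy⟩
        exact ⟨_, _, by rw [← uhEl_mul]; exact mul_mem hx hy⟩
      inv_mem' := by
        rintro x ⟨a, c, hx⟩
        obtain ⟨a', c', k', e⟩ := fix_inf h (g := (uEl h a c * hEl h x)⁻¹)
          (inv_smul_eq_iff.2 (uhEl_smul_inf h a c x).symm)
        have e1 := mul_inv_cancel (uEl h a c * hEl h x)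
        rw [e, uhEl_mul, ← mul_one (1 : ↥(Cfsg.Sz F m))] at e1
        nth_rewrite 1 [← uEl_zero h] at e1
        rw [← hEl_one h] at e1
        obtain ⟨-, -, e2⟩ := uhEl_inj h e1
        obtain rfl : k' = x⁻¹ := eq_inv_of_mul_eq_one_right e2
        exact ⟨a', c', e ▸ inv_mem hx⟩ }
  obtain ⟨⟨k0, a0, c0, hk0⟩, hgen⟩ := IsCyclic.exists_generator (α := ↥J)
  obtain ⟨s, ⟨hs, hs0⟩ | hs0⟩ : ∃ s : ↥(Cfsg.Sz F m), ((∃ x y : F, s = uEl h x y) ∧ s * (uEl h a0 c0 * hEl h k0) * s⁻¹ = hEl h k0) ∨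
      (k0 = 1 ∧ s = 1) := by
    by_cases hk : k0 = 1
    · exact ⟨1, Or.inr ⟨hk, rfl⟩⟩
    obtain ⟨x, y, hxy⟩ := exists_second_fix h a0 c0 hk
    obtain ⟨x', y', hs⟩ : (uEl h x y)⁻¹ ∈ uGrp h := inv_mem (uEl_mem h x y)
    refine ⟨(uEl h x y)⁻¹, Or.inl ⟨⟨x', y', hs⟩, ?_⟩⟩
    have f0 : ((uEl h x y)⁻¹ * (uEl h a0 c0 * hEl h k0) * (uEl h x y)⁻¹⁻¹) • pt m (0 : F) 0 = pt m 0 0 := by
      rw [inv_inv, mul_smul, mul_smul, uEl_smul_zero, hxy, inv_smul_eq_iff, uEl_smul_zero]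
    have f1 : ((uEl h x y)⁻¹ * (uEl h a0 c0 * hEl h k0) * (uEl h x y)⁻¹⁻¹) • inf' F m = inf' F m := by
      rw [inv_inv, mul_smul, mul_smul, uEl_smul_inf, uhEl_smul_inf, inv_smul_eq_iff, uEl_smul_inf]
    obtain ⟨l, hl⟩ := fix_two h f1 f0
    obtain ⟨a', c', e⟩ : ∃ a' c' : F, (uEl h x y)⁻¹ * (uEl h a0 c0 * hEl h k0) * (uEl h x y)⁻¹⁻¹ = uEl h a' c' * hEl h k0 := by
      rw [inv_inv, hs]
      exact u_conj_uh h _ _ _ _ _ _ _
    rw [hl, ← one_mul (hEl h l), ← uEl_zero h] at e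
    obtain ⟨-, -, rfl⟩ := uhEl_inj h e
    exact hl
  · refine good_conj h s ?_
    refine good_even h ⟨?_, ?_, ?_⟩
    · intro a c k hk
      obtain ⟨x, y, rfl⟩ := hs
      obtain ⟨w, hw, ew⟩ := hk
      have hwf : w • inf' F m = inf' F m := by
        have e' : uEl h x y * w * (uEl h x y)⁻¹ = uEl h a c * hEl h k := ew
        rw [show w = (uEl h x y)⁻¹ * (uEl h x y * w * (uEl h x y)⁻¹) * uEl h x y by group, e', mul_smul,
          mul_smul, uEl_smul_inf, uhEl_smul_inf, inv_smul_eq_iff, uEl_smul_inf]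
      obtain ⟨a', c', k', rfl⟩ := fix_inf h hwf
      obtain ⟨x', y', hxy⟩ : (uEl h x y)⁻¹ ∈ uGrp h := inv_mem (uEl_mem h x y)
      obtain rfl : k' = k := by
        have e' : uEl h x y * (uEl h a' c' * hEl h k') * (uEl h x y)⁻¹ = uEl h a c * hEl h k := ew
        obtain ⟨a'', c'', e''⟩ := u_conj_uh h x y a' c' x' y' k'
        rw [hxy, e''] at e'
        exact (uhEl_inj h e').2.2
      obtain ⟨i, hi⟩ := Subgroup.mem_zpowers_iff.1 (hgen ⟨k', a', c', hw⟩)
      have hi' : k0 ^ i = k' := congrArg Subtype.val hi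
      rw [← mem_kGrp, ← hi']
      refine zpow_mem (?_ : k0 ∈ kGrp h _) i
      exact (mem_kGrp h).2 (Subgroup.mem_map.2 ⟨_, hk0, hs0⟩)
    · obtain ⟨x, y, rfl⟩ := hs
      refine ⟨b, hb, ⟨_, hbM, ?_⟩⟩
      show uEl h x y * uEl h 0 b * (uEl h x y)⁻¹ = uEl h 0 b
      rw [mul_inv_eq_iff_eq_mul, uEl_mul, uEl_mul, th_zero, zero_mul, mul_zero, add_zero, zero_add, add_zero,
        add_zero, add_comm]
    · obtain ⟨g, hg, hgm⟩ := hmove
      obtain ⟨x, y, rfl⟩ := hs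
      refine ⟨_, ⟨g, hg, rfl⟩, fun e => hgm ?_⟩
      have e' : (uEl h x y * g * (uEl h x y)⁻¹) • inf' F m = inf' F m := e
      rw [mul_smul, mul_smul, inv_smul_eq_iff.2 (uEl_smul_inf h x y).symm] at e'
      exact smul_left_cancel (uEl h x y) (e'.trans (uEl_smul_inf h x y).symm)
  · -- no torus at infinity
    obtain ⟨hk, -⟩ := hs0
    subst hk
    refine good_even h ⟨fun a c k hk => ?_, ⟨b, hb, hbM⟩, hmove⟩
    obtain ⟨i, hi⟩ := Subgroup.mem_zpowers_iff.1 (hgen ⟨k, a, c, hk⟩)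
    have hi' : (1 : Fˣ) ^ i = k := congrArg Subtype.val hi
    rw [← hi', one_zpow, hEl_one]
    exact one_mem _

end Cfsg.Agent.KnownA.SzMaximal
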